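import Cfsg.Agent.Lib.SL2.Bruhat

/-!
# Short presentations of `SL₂` and `PSL₂` over finite fields: the abstract part
-/

set_option autoImplicit false
set_option backward.isDefEq.respectTransparency false

namespace Cfsg.Agent.SL2

open Matrix Polynomial
open scoped MatrixGroups

section word

variable {J : Type*} [Group J]

/-- The product of the conjugates `hⁱ u h⁻ⁱ` with the coefficients of `f` as exponents. -/
def word (u h : J) (f : ℤ[X]) : J :=
  ((List.range (f.natDegree + 1)).map fun i => (h ^ i * u * (h ^ i)⁻¹) ^ f.coeff i).prod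

theorem map_word {J' : Type*} [Group J'] (φ : J →* J') (u h : J) (f : ℤ[X]) :
    φ (word u h f) = word (φ u) (φ h) f := by
  simp [word, map_list_prod, List.map_map, Function.comp_def]

theorem commute_conj_pow {u h : J} {i n : ℕ} (hc : Commute u (h ^ n * u * (h ^ n)⁻¹)) :
    Commute (h ^ i * u * (h ^ i)⁻¹) (h ^ (i + n) * u * (h ^ (i + n))⁻¹) := by
  have := hc.map (MulAut.conj (h ^ i))
  simp only [MulAut.conj_apply] at this
  convert this using 1
  group

theorem commute_conj_pow' {u h : J} {N : ℕ} (hc : ∀ n ≤ N, Commute u (h ^ n * u * (h ^ n)⁻¹))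
    {i j : ℕ} (h1 : i ≤ j + N) (h2 : j ≤ i + N) :
    Commute (h ^ i * u * (h ^ i)⁻¹) (h ^ j * u * (h ^ j)⁻¹) := by
  rcases le_total i j with h | h
  · obtain ⟨n, rfl⟩ := Nat.exists_eq_add_of_le h
    exact commute_conj_pow (hc n (by omega))
  · obtain ⟨n, rfl⟩ := Nat.exists_eq_add_of_le h
    exact (commute_conj_pow (hc n (by omega))).symm

open scoped IsMulCommutative in
theorem exists_wordHom {u h : J} (hc : ∀ n : ℕ, Commute u (h ^ n * u * (h ^ n)⁻¹)) :
    ∃ E : Multiplicative ℤ[X] →* J, (∀ f, E (Multiplicative.ofAdd f) = word u h f) ∧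
      ∀ f, E (Multiplicative.ofAdd (X * f)) = h * E (Multiplicative.ofAdd f) * h⁻¹ := by
  let V := Subgroup.closure (Set.range fun i : ℕ => h ^ i * u * (h ^ i)⁻¹)
  have : IsMulCommutative V := Subgroup.isMulCommutative_closure (by
    rintro _ ⟨i, rfl⟩ _ ⟨j, rfl⟩
    exact (commute_conj_pow' (N := i + j) (fun n _ => hc n) (by omega) (by omega)).eq)
  have hV : V ≤ V.comap (MulAut.conj h).toMonoidHom := by
    rw [Subgroup.closure_le]
    rintro _ ⟨i, rfl⟩
    refine Subgroup.subset_closure ⟨i + 1, ?_⟩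
    simp only [MulEquiv.coe_toMonoidHom, MulAut.conj_apply]
    group
  let T0 : V →* V := ((MulAut.conj h).toMonoidHom.comp V.subtype).codRestrict V fun v => hV v.2
  let T : Module.End ℤ (Additive V) := (MonoidHom.toAdditive T0).toIntLinearMap
  have hT : ∀ v, ((T v).toMul : J) = h * (v.toMul : J) * h⁻¹ := fun _ => rfl
  let u0 : Additive V := Additive.ofMul ⟨u, Subgroup.subset_closure ⟨0, by simp⟩⟩
  have hTi : ∀ i : ℕ, (((T ^ i) u0).toMul : J) = h ^ i * u * (h ^ i)⁻¹ := fun i => by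
    induction i with
    | zero => simp [u0]
    | succ i ih => rw [pow_succ', Module.End.mul_apply, hT, ih]; group
  let E0 : ℤ[X] →+ Additive V := AddMonoidHom.mk' (fun f => aeval T f u0) fun f g => by simp
  refine ⟨V.subtype.comp (AddMonoidHom.toMultiplicativeLeft E0), fun f => ?_, fun f => ?_⟩
  · change ((aeval T f u0).toMul : J) = _
    rw [aeval_eq_sum_range, LinearMap.sum_apply, word]
    induction f.natDegree + 1 with
    | zero => simp
    | succ n ih =>
      rw [Finset.sum_range_succ, List.range_succ, List.map_append, List.prod_append, ← ih,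
        toMul_add, Subgroup.coe_mul, LinearMap.smul_apply, toMul_zsmul, Subgroup.coe_zpow, hTi]
      simp
  · change ((aeval T (X * f) u0).toMul : J) = h * ((aeval T f u0).toMul : J) * h⁻¹
    rw [map_mul, aeval_X, Module.End.mul_apply, hT]

theorem word_C (u h : J) (a : ℤ) : word u h (C a) = u ^ a := by
  simp [word]

theorem word_one (u h : J) : word u h 1 = u := by
  rw [← C_1, word_C, zpow_one]

section
variable {u h : J} (hc : ∀ n : ℕ, Commute u (h ^ n * u * (h ^ n)⁻¹))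
include hc

theorem word_add (f g : ℤ[X]) : word u h (f + g) = word u h f * word u h g := by
  obtain ⟨E, h1, -⟩ := exists_wordHom hc
  rw [← h1, ← h1, ← h1, ofAdd_add, map_mul]

theorem word_X_mul (f : ℤ[X]) : word u h (X * f) = h * word u h f * h⁻¹ := by
  obtain ⟨E, h1, h2⟩ := exists_wordHom hc
  rw [← h1, ← h1, h2]

theorem word_C_mul (a : ℤ) (f : ℤ[X]) : word u h (C a * f) = word u h f ^ a := by
  obtain ⟨E, h1, -⟩ := exists_wordHom hc
  rw [← h1, ← h1, ← map_zpow, ← ofAdd_zsmul, zsmul_eq_mul, eq_intCast]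

theorem word_X_pow_mul (n : ℕ) (f : ℤ[X]) :
    word u h (X ^ n * f) = h ^ n * word u h f * (h ^ n)⁻¹ := by
  induction n with
  | zero => simp
  | succ n ih => rw [pow_succ', mul_assoc, word_X_mul hc, ih]; group

theorem word_X_pow (n : ℕ) : word u h (X ^ n) = h ^ n * u * (h ^ n)⁻¹ := by
  rw [← mul_one (X ^ n), word_X_pow_mul hc, word_one]

theorem word_mul_of_fixed {m : ℤ[X]} (hm : h * word u h m * h⁻¹ = word u h m) (g : ℤ[X]) :
    word u h (g * m) = word u h m ^ g.eval 1 := by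
  induction g using Polynomial.induction_on' with
  | add p q hp hq => rw [add_mul, word_add hc, hp, hq, eval_add, _root_.zpow_add]
  | monomial n a =>
    rw [← C_mul_X_pow_eq_monomial, mul_assoc, word_C_mul hc, word_X_pow_mul hc]
    have : Commute (h ^ n) (word u h m) := Commute.pow_left (mul_inv_eq_iff_eq_mul.1 hm) n
    rw [this.eq]
    simp

theorem word_mul_of_eq_one {m : ℤ[X]} (hm : word u h m = 1) (g : ℤ[X]) :
    word u h (g * m) = 1 := by
  rw [word_mul_of_fixed hc (by rw [hm]; simp), hm, _root_.one_zpow]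

theorem word_eq_one_of_fixed {m r : ℤ[X]} (hm : h * word u h m * h⁻¹ = word u h m)
    (hr : word u h r = 1) (hr1 : r.eval 1 = 1) : word u h m = 1 := by
  have := word_mul_of_fixed hc hm r
  rwa [hr1, zpow_one, mul_comm r, word_mul_of_eq_one hc hr, eq_comm] at this

end

/-- Baumslag's argument, first form. -/
theorem commute_of_rel_one {u h : J} {k : ℕ} (h1 : Commute u (h * u * h⁻¹))
    (hk : h ^ k * u * (h ^ k)⁻¹ = u * (h * u * h⁻¹)) (n : ℕ) :
    Commute u (h ^ n * u * (h ^ n)⁻¹) := by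
  have key : ∀ N, ∀ n ≤ N + 1, Commute u (h ^ n * u * (h ^ n)⁻¹) := by
    intro N
    induction N with
    | zero =>
      intro n hn
      interval_cases n
      · simp
      · simpa using h1
    | succ N ih =>
      intro n hn
      rcases hn.lt_or_eq with hn | rfl
      · exact ih n (by omega)
      have e : ∀ i : ℕ, h ^ (k + i) * u * (h ^ (k + i))⁻¹ =
          h ^ i * u * (h ^ i)⁻¹ * (h ^ (i + 1) * u * (h ^ (i + 1))⁻¹) := fun i => by
        calc h ^ (k + i) * u * (h ^ (k + i))⁻¹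
            = h ^ i * (h ^ k * u * (h ^ k)⁻¹) * (h ^ i)⁻¹ := by group
          _ = _ := by rw [hk]; group
      have c1 := commute_conj_pow (i := k) (ih (N + 1) le_rfl)
      rw [e, hk] at c1
      have c2 : Commute (h ^ 1 * u * (h ^ 1)⁻¹) _ :=
        (commute_conj_pow' ih (j := N + 1) (by omega) (by omega)).mul_right
          (commute_conj_pow' ih (j := N + 1 + 1) (by omega) (by omega))
      rw [pow_one] at c2
      have c3 := c1.mul_left c2.inv_left
      rw [mul_inv_cancel_right] at c3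
      have c4 := (ih (N + 1) le_rfl).inv_right.mul_right c3
      rwa [inv_mul_cancel_left] at c4
  exact key n n (by omega)

/-- Baumslag's argument, second form. -/
theorem commute_of_rel_two {u h : J} {k : ℕ} (h1 : Commute u (h * u * h⁻¹))
    (h2 : Commute u (h ^ 2 * u * (h ^ 2)⁻¹))
    (hk : h ^ k * u * (h ^ k)⁻¹ = u * (h * u * h⁻¹) ^ (-2 : ℤ) * (h ^ 2 * u * (h ^ 2)⁻¹)) (n : ℕ) :
    Commute u (h ^ n * u * (h ^ n)⁻¹) := by
  have key : ∀ N, ∀ n ≤ N + 2, Commute u (h ^ n * u * (h ^ n)⁻¹) := by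
    intro N
    induction N with
    | zero =>
      intro n hn
      interval_cases n
      · simp
      · simpa using h1
      · exact h2
    | succ N ih =>
      intro n hn
      rcases hn.lt_or_eq with hn | rfl
      · exact ih n (by omega)
      have e : ∀ i : ℕ, h ^ (k + i) * u * (h ^ (k + i))⁻¹ =
          h ^ i * u * (h ^ i)⁻¹ * (h ^ (i + 1) * u * (h ^ (i + 1))⁻¹) ^ (-2 : ℤ) *
            (h ^ (i + 2) * u * (h ^ (i + 2))⁻¹) := fun i => by
        calc h ^ (k + i) * u * (h ^ (k + i))⁻¹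
            = h ^ i * (h ^ k * u * (h ^ k)⁻¹) * (h ^ i)⁻¹ := by group
          _ = _ := by
            rw [hk]
            simp only [_root_.zpow_neg, zpow_two]
            group
      have c1 := commute_conj_pow (i := k) (ih (N + 1) (by omega))
      rw [e, hk] at c1
      have c2 : ∀ j, 1 ≤ j → j ≤ 2 → Commute (h ^ j * u * (h ^ j)⁻¹)
          (h ^ (N + 1) * u * (h ^ (N + 1))⁻¹ *
            (h ^ (N + 1 + 1) * u * (h ^ (N + 1 + 1))⁻¹) ^ (-2 : ℤ) *
              (h ^ (N + 1 + 2) * u * (h ^ (N + 1 + 2))⁻¹)) := fun j hj hj' =>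
        ((commute_conj_pow' ih (by omega) (by omega)).mul_right
          ((commute_conj_pow' ih (by omega) (by omega)).zpow_right _)).mul_right
          (commute_conj_pow' ih (by omega) (by omega))
      have c21 := c2 1 le_rfl (by omega)
      rw [pow_one] at c21
      have c3 := (c1.mul_left (c2 2 (by omega) le_rfl).inv_left).mul_left
        (c21.zpow_left (-2)).inv_left
      rw [mul_inv_cancel_right, mul_inv_cancel_right] at c3
      have c4 := ((ih (N + 1) (by omega)).mul_right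
        ((ih (N + 1 + 1) le_rfl).zpow_right (-2))).inv_right.mul_right c3
      rwa [inv_mul_cancel_left] at c4
  exact key n n (by omega)

end word

variable {F : Type*} [Field F]

theorem word_up (ζ : Fˣ) (f : ℤ[X]) :
    word (up 1) (dg ζ) f = up (aeval ((ζ : F) ^ 2) f) := by
  have e : ∀ n : ℕ, dg ζ ^ n * up 1 * (dg ζ ^ n)⁻¹ = up (((ζ : F) ^ 2) ^ n) := fun n => by
    rw [← dgHom_apply, ← map_pow, dgHom_apply, dg_mul_up, Units.val_pow_eq_pow_val, mul_one,
      ← pow_mul, ← pow_mul, mul_comm]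
  have hc : ∀ n : ℕ, Commute (up (1 : F)) (dg ζ ^ n * up 1 * (dg ζ ^ n)⁻¹) := fun n => by
    rw [e, Commute, SemiconjBy, up_mul, up_mul, add_comm]
  induction f using Polynomial.induction_on' with
  | add p q hp hq => rw [word_add hc, hp, hq, map_add, up_mul]
  | monomial n a =>
    rw [← C_mul_X_pow_eq_monomial, word_C_mul hc, word_X_pow hc, e]
    change upHom (Multiplicative.ofAdd (((ζ : F) ^ 2) ^ n)) ^ a = _
    rw [← map_zpow, ← ofAdd_zsmul]
    simp

theorem aeval_surjective [Finite F] {ζ : Fˣ} (hζ : ∀ x, x ∈ Submonoid.powers ζ) :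
    Function.Surjective (fun f : ℤ[X] => aeval ((ζ : F) ^ 2) f) := by
  have key : ∀ r : F, ∃ f : ℤ[X], aeval ((ζ : F) ^ 2) f = r ^ 2 := fun r => by
    by_cases hr : r = 0
    · exact ⟨0, by simp [hr]⟩
    · obtain ⟨n, hn⟩ := hζ (Units.mk0 r hr)
      have hn' : (ζ : F) ^ n = r := by simpa using congrArg Units.val hn
      exact ⟨X ^ n, by rw [map_pow, aeval_X, ← hn', ← pow_mul, ← pow_mul, mul_comm]⟩
  intro a
  obtain ⟨r, s, h⟩ := exists_sq_add_sq (F := F) one_ne_zero one_ne_zero a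
  obtain ⟨f, hf⟩ := key r
  obtain ⟨g, hg⟩ := key s
  exact ⟨f + g, by simp only [map_add, hf, hg]; linear_combination h⟩

theorem exists_minpoly_lift [Finite F] (p : ℕ) [Fact p.Prime] [CharP F p] (ω : F) :
    ∃ m : ℤ[X], aeval ω m = 0 ∧
      ∀ f : ℤ[X], aeval ω f = 0 → ∃ g r : ℤ[X], f = g * m + r * C (p : ℤ) := by
  let _ : Algebra (ZMod p) F := ZMod.algebra F p
  have hmap : ∀ f : ℤ[X], aeval ω (f.map (Int.castRingHom (ZMod p))) = aeval ω f := fun f =>
    aeval_map_algebraMap (ZMod p) ω f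
  have hs := Polynomial.map_surjective (Int.castRingHom (ZMod p)) (ZMod.ringHom_surjective _)
  obtain ⟨m, hm⟩ := hs (minpoly (ZMod p) ω)
  refine ⟨m, by rw [← hmap, hm, minpoly.aeval], fun f hf => ?_⟩
  obtain ⟨g', hg'⟩ := minpoly.dvd (ZMod p) ω (p := f.map (Int.castRingHom (ZMod p)))
    (by rw [hmap, hf])
  obtain ⟨g, rfl⟩ := hs g'
  have : C (p : ℤ) ∣ f - g * m := by
    rw [C_dvd_iff_dvd_coeff]
    intro i
    rw [← ZMod.intCast_zmod_eq_zero_iff_dvd, ← eq_intCast (Int.castRingHom (ZMod p)),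
      ← coeff_map, Polynomial.map_sub, Polynomial.map_mul, hg', hm, mul_comm, sub_self, coeff_zero]
  obtain ⟨r, hr⟩ := this
  exact ⟨g, r, by rw [mul_comm r, ← hr]; ring⟩

/-- The rank one data of a group generated by three elements satisfying the relations of
the short presentations. -/
theorem exists_rankOne [Finite F] {J : Type*} [Group J] {p : ℕ} {ζ : Fˣ}
    (hζ : ∀ x, x ∈ Submonoid.powers ζ) {m : ℤ[X]}
    (hm : ∀ f : ℤ[X], aeval ((ζ : F) ^ 2) f = 0 → ∃ g r : ℤ[X], f = g * m + r * C (p : ℤ))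
    {u h t : J} (hc : ∀ n : ℕ, Commute u (h ^ n * u * (h ^ n)⁻¹)) (h2 : u ^ p = 1)
    (h3 : word u h m = 1) (h4 : h ^ (Nat.card F - 1) = 1) (h5 : t * h * t⁻¹ = h⁻¹) {e : ℕ}
    (he : ζ ^ e = -1) (h6 : t * t = h ^ e) (h7 : t * u * t⁻¹ = u⁻¹ * t * u⁻¹) {f₁ f₂ : ℤ[X]}
    (h8 : (2 : F) = 0 ∨ (aeval ((ζ : F) ^ 2) f₁ = (ζ : F) ∧
      aeval ((ζ : F) ^ 2) f₂ = -(ζ : F)⁻¹ ∧
      t * word u h f₁ * t⁻¹ = word u h f₂ * h⁻¹ * t * word u h f₂)) :
    ∃ D : RankOne F J, (∀ f, D.x (aeval ((ζ : F) ^ 2) f) = word u h f) ∧ D.h ζ = h ∧ D.w = t := by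
  have hs := aeval_surjective hζ
  have hk : ∀ f : ℤ[X], aeval ((ζ : F) ^ 2) f = 0 → word u h f = 1 := fun f hf => by
    obtain ⟨g, r, rfl⟩ := hm f hf
    rw [word_add hc, word_mul_of_eq_one hc h3,
      word_mul_of_eq_one hc (by rw [word_C, zpow_natCast, h2]), mul_one]
  let x : F → J := fun a => word u h (Function.surjInv hs a)
  have hx : ∀ f, x (aeval ((ζ : F) ^ 2) f) = word u h f := fun f => by
    have := word_add hc (Function.surjInv hs (aeval ((ζ : F) ^ 2) f) - f) f
    rw [sub_add_cancel, hk (_ - _) (by rw [map_sub, Function.surjInv_eq hs, sub_self]),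
      one_mul] at this
    exact this
  have hx1 : x 1 = u := by simpa [word_one] using hx 1
  have hxa : ∀ a b, x (a + b) = x a * x b := fun a b => by
    obtain ⟨f, rfl⟩ := hs a
    obtain ⟨g, rfl⟩ := hs b
    rw [← map_add, hx, hx, hx, word_add hc]
  have hζ' : ∀ x, x ∈ Subgroup.zpowers ζ := fun x => Submonoid.powers_le_zpowers ζ (hζ x)
  let hh : Fˣ →* J := monoidHomOfForallMemZpowers hζ' (g' := h) (by
    rw [orderOf_eq_card_of_forall_mem_zpowers hζ', Nat.card_units]
    exact orderOf_dvd_of_pow_eq_one h4)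
  have hhζ : hh ζ = h := monoidHomOfForallMemZpowers_apply_gen _ _
  have h_x : ∀ (s : Fˣ) a, hh s * x a * (hh s)⁻¹ = x ((s : F) ^ 2 * a) := fun s a => by
    obtain ⟨n, rfl⟩ := hζ s
    obtain ⟨f, rfl⟩ := hs a
    simp only [map_pow, hhζ, Units.val_pow_eq_pow_val]
    rw [hx, ← word_X_pow_mul hc, ← hx, map_mul, map_pow, aeval_X, ← pow_mul, ← pow_mul, mul_comm n]
  have w_h : ∀ s, t * hh s * t⁻¹ = hh s⁻¹ := fun s => by
    obtain ⟨n, rfl⟩ := hζ s
    simp only [map_pow, map_inv, hhζ]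
    rw [← conj_pow, h5, inv_pow]
  have w1 : t * x (1 : Fˣ) * t⁻¹ = x (-((1 : Fˣ) : F)⁻¹) * hh 1⁻¹ * t * x (-((1 : Fˣ) : F)⁻¹) := by
    simp only [Units.val_one, inv_one, map_one, mul_one, x_neg_of_add hxa, hx1, h7]
  refine ⟨⟨x, hh, t, hxa, h_x, w_h, by rw [h6, ← he, map_pow, hhζ], fun b => ?_⟩, hx, hhζ, rfl⟩
  rcases h8 with h8 | ⟨e1, e2, h8⟩
  · obtain ⟨r, hr⟩ := isSquare_of_two_eq_zero h8 (b : F)
    have hr0 : r ≠ 0 := by rintro rfl; simp at hr
    have := w_x_of_sq h_x w_h w1 (Units.mk0 r hr0)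
    rwa [show Units.mk0 r hr0 ^ 2 * 1 = b from Units.ext (by simp [hr, sq])] at this
  · obtain ⟨n, rfl⟩ := hζ b
    rcases Nat.even_or_odd' n with ⟨k, rfl | rfl⟩
    · have := w_x_of_sq h_x w_h w1 (ζ ^ k)
      rwa [mul_one, ← pow_mul, mul_comm k] at this
    · have := w_x_of_sq h_x w_h (b := ζ) (by
        rw [← e2, hx, map_inv, hhζ, ← h8, ← hx, e1]) (ζ ^ k)
      rwa [← pow_mul, mul_comm k, ← pow_succ] at this

theorem rankOne_gen {J : Type*} [Group J] (D : RankOne F J) {f : Fin 3 → J}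
    (hf : Subgroup.closure (Set.range f) = ⊤) (h0 : D.x 1 = f 0) {ζ : Fˣ} (h1 : D.h ζ = f 1)
    (h2 : D.w = f 2) : Subgroup.closure (Set.range D.x ∪ Set.range D.h ∪ {D.w}) = ⊤ := by
  rw [eq_top_iff, ← hf]
  apply Subgroup.closure_mono
  rintro _ ⟨i, rfl⟩
  fin_cases i
  · exact Or.inl (Or.inl ⟨1, h0⟩)
  · exact Or.inl (Or.inr ⟨ζ, h1⟩)
  · exact Or.inr h2.symm

theorem closure_three [Finite F] {ζ : Fˣ} (hζ : ∀ x, x ∈ Submonoid.powers ζ) {G : Type*} [Group G]
    (ρ : SL(2, F) →* G) (hρ : Function.Surjective ρ) :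
    Subgroup.closure (Set.range ![ρ (up 1), ρ (dg ζ), ρ wt]) = ⊤ := by
  have : (Subgroup.closure (Set.range ![ρ (up 1), ρ (dg ζ), ρ wt])).comap ρ = ⊤ := by
    refine eq_top_of_up_wt (fun a => ?_) (Subgroup.subset_closure ⟨2, rfl⟩)
    obtain ⟨f, rfl⟩ := aeval_surjective hζ a
    rw [← word_up, Subgroup.mem_comap, map_word, word]
    refine list_prod_mem fun y hy => ?_
    obtain ⟨i, -, rfl⟩ := List.mem_map.1 hy
    have h0 : ρ (up 1) ∈ Subgroup.closure (Set.range ![ρ (up 1), ρ (dg ζ), ρ wt]) :=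
      Subgroup.subset_closure ⟨0, rfl⟩
    have h1 : ρ (dg ζ) ∈ Subgroup.closure (Set.range ![ρ (up 1), ρ (dg ζ), ρ wt]) :=
      Subgroup.subset_closure ⟨1, rfl⟩
    exact zpow_mem (mul_mem (mul_mem (pow_mem h1 _) h0) (inv_mem (pow_mem h1 _))) _
  rw [eq_top_iff]
  intro g _
  obtain ⟨g, rfl⟩ := hρ g
  exact (this ▸ Subgroup.mem_top g :
    g ∈ (Subgroup.closure (Set.range ![ρ (up 1), ρ (dg ζ), ρ wt])).comap ρ)

theorem exists_pres {X : Type} {G : Type*} [Group G] (L : List (FreeGroup X)) (π : X → G)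
    (hgen : Subgroup.closure (Set.range π) = ⊤) (hrel : ∀ w ∈ L, FreeGroup.lift π w = 1)
    (hJ : ∀ (J : Type) [Group J] (f : X → J) (φ : J →* G), Subgroup.closure (Set.range f) = ⊤ →
      (∀ w ∈ L, FreeGroup.lift f w = 1) → (∀ i, φ (f i) = π i) → Function.Injective φ) :
    ∃ rels : Finset (FreeGroup X), rels.card ≤ L.length ∧
      Nonempty (PresentedGroup (rels : Set (FreeGroup X)) ≃* G) := by
  classical
  have hR : ∀ w ∈ (L.toFinset : Set (FreeGroup X)), FreeGroup.lift π w = 1 := fun w hw =>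
    hrel w (by simpa using hw)
  refine ⟨L.toFinset, List.toFinset_card_le L,
    ⟨MulEquiv.ofBijective (PresentedGroup.toGroup hR) ⟨?_, ?_⟩⟩⟩
  · refine hJ _ PresentedGroup.of _ (PresentedGroup.closure_range_of _) (fun w hw => ?_)
      fun i => PresentedGroup.toGroup.of hR
    exact (FreeGroup.lift_unique (PresentedGroup.mk _) (fun x => rfl)).symm.trans
      (PresentedGroup.one_of_mem (by simpa using hw))
  · rw [← MonoidHom.range_eq_top, eq_top_iff, ← hgen, Subgroup.closure_le]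
    rintro _ ⟨i, rfl⟩
    exact ⟨_, PresentedGroup.toGroup.of hR⟩

end Cfsg.Agent.SL2
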