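import Cfsg.Agent.Lib.SL2.PSL

/-!
# Products of two conjugates in `SL₂` and `PSL₂`
-/

set_option autoImplicit false
set_option backward.isDefEq.respectTransparency false

namespace Cfsg.Agent.SL2

open Matrix
open scoped MatrixGroups

variable {F : Type*} [Field F]

/-- Macbeath's trace theorem for a regular semisimple product. -/
theorem exists_traces [Finite F] (t s : F) {r : F} (hr : r ^ 2 ≠ 4) :
    ∃ A B : SL(2, F), A.1.trace = t ∧ B.1.trace = s ∧ A * B = cmp r := by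
  have hr' : r ^ 2 - 4 ≠ 0 := sub_ne_zero.2 hr
  obtain ⟨x0, y0, e1, e2⟩ : ∃ x0 y0 : F, 2 * x0 - r * y0 = t ∧ 2 * y0 - r * x0 = -s := by
    refine ⟨(r * s - 2 * t) / (r ^ 2 - 4), (2 * s - r * t) / (r ^ 2 - 4), ?_, ?_⟩ <;>
      field_simp <;> ring
  obtain ⟨x, y, hxy⟩ := nf_universal (t := -r) (d := 1) (Or.inl (by simpa using hr))
    (nf (-r) 1 x0 y0 - 1)
  unfold nf at hxy
  let C : SL(2, F) := ⟨!![t - (x + x0), s + (y + y0) - r * (x + x0); y + y0, x + x0], by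
    rw [det_fin_two_of]
    linear_combination -hxy - (x + x0) * e1 - (y + y0) * e2⟩
  refine ⟨C⁻¹, C * cmp r, ?_, ?_, by group⟩
  · rw [SL_trace_inv]; simp [C, trace_fin_two]
  · simp [C, trace_fin_two, SL2.comp]; ring

/-- `SL₂`-classes determined by a regular trace are stable under `GL₂`. -/
theorem exists_mul_of_GL_conj [Finite F] {t s : F} {g h : SL(2, F)} (hg : ¬ IsScal g.1)
    (hh : ¬ IsScal h.1) (ht : g.1.trace = h.1.trace)
    (H : ∃ A B : SL(2, F), A.1.trace = t ∧ B.1.trace = s ∧ A * B = h) :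
    ∃ A B : SL(2, F), A.1.trace = t ∧ B.1.trace = s ∧ A * B = g := by
  obtain ⟨A, B, hA, hB, rfl⟩ := H
  obtain ⟨P, hP, e⟩ := exists_intertwine hh hg ht.symm (by rw [g.2, (A * B).2])
  have hP1 : P⁻¹ * P = 1 := nonsing_inv_mul P (isUnit_iff_ne_zero.2 hP)
  have hP2 : P * P⁻¹ = 1 := mul_nonsing_inv P (isUnit_iff_ne_zero.2 hP)
  have hdet : ∀ X : SL(2, F), (P * X.1 * P⁻¹).det = 1 := fun X => by
    rw [det_mul, det_mul, X.2, mul_one, ← det_mul, hP2, det_one]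
  have htr : ∀ X : SL(2, F), (P * X.1 * P⁻¹).trace = X.1.trace := fun X => by
    rw [trace_mul_cycle, hP1, one_mul]
  refine ⟨⟨_, hdet A⟩, ⟨_, hdet B⟩, (htr A).trans hA, (htr B).trans hB, SL_ext ?_⟩
  change P * A.1 * P⁻¹ * (P * B.1 * P⁻¹) = g.1
  calc P * A.1 * P⁻¹ * (P * B.1 * P⁻¹) = P * A.1 * (P⁻¹ * P) * B.1 * P⁻¹ := by
        simp only [Matrix.mul_assoc]
    _ = P * (A * B).1 * P⁻¹ := by rw [hP1, SL_coe_mul]; simp only [Matrix.mul_assoc, one_mul]
    _ = g.1 := by rw [e, Matrix.mul_assoc, hP2, mul_one]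

theorem exists_mul_conj [Finite F] {x : SL(2, F)} (hd : x.1.trace ^ 2 ≠ 4)
    (hx : ((2 : F) ≠ 0 ∧ x.1.trace ≠ 0) ∨ ∃ a : Fˣ, (a : F) ^ 2 ≠ 1 ∧ x.1.trace = a + (a : F)⁻¹)
    (g : PSL(2, F)) (hg : g ≠ 1) :
    ∃ u v : PSL(2, F), g = (u * pr x * u⁻¹) * (v * pr x * v⁻¹) := by
  suffices H : ∃ A B : SL(2, F), A.1.trace = x.1.trace ∧
      (B.1.trace = x.1.trace ∨ B.1.trace = -x.1.trace) ∧ pr (A * B) = g by
    obtain ⟨A, B, hA, hB, rfl⟩ := H
    obtain ⟨u, hu⟩ := isConj_iff.1 (pr.map_isConj (SL_isConj_of_trace' hA.symm hd))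
    have : IsConj (pr x) (pr B) := by
      rw [PSL_isConj_iff]
      exact hB.imp (fun h => SL_isConj_of_trace' h.symm hd)
        (fun h => SL_isConj_of_trace' (by rw [SL_coe_neg, trace_neg, h, neg_neg]) hd)
    obtain ⟨v, hv⟩ := isConj_iff.1 this
    exact ⟨u, v, by rw [hu, hv, map_mul]⟩
  obtain ⟨g, rfl⟩ := pr_surjective g
  have hg' : ¬ IsScal g.1 := fun h => hg (pr_eq_one_iff.2 h)
  by_cases hr : g.1.trace ^ 2 = 4
  · have key : ∀ g : SL(2, F), ¬ IsScal g.1 → g.1.trace = 2 → ∃ A B : SL(2, F),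
        A.1.trace = x.1.trace ∧ (B.1.trace = x.1.trace ∨ B.1.trace = -x.1.trace) ∧
          pr (A * B) = pr g := by
      intro g hg' hr
      have hu : ¬ IsScal (up (1 : F)).1 := by simp [IsScal]
      rcases hx with ⟨h2, ht⟩ | ⟨a, ha, ht⟩
      · have h0 : 2 * x.1.trace ≠ 0 := mul_ne_zero h2 ht
        let C : SL(2, F) := ⟨!![0, (2 * x.1.trace)⁻¹; -(2 * x.1.trace), x.1.trace], by
          rw [det_fin_two_of]; field_simp; simp⟩
        obtain ⟨A, B, hA, hB, e⟩ := exists_mul_of_GL_conj (t := x.1.trace) (s := -x.1.trace)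
          hg' hu (by rw [hr, trace_up]) ⟨C⁻¹, C * up 1, by
            rw [SL_trace_inv]; simp [C, trace_fin_two], by
            simp [C, trace_fin_two]; ring, by group⟩
        exact ⟨A, B, hA, Or.inr hB, by rw [e]⟩
      · obtain ⟨A, B, hA, hB, e⟩ := exists_mul_of_GL_conj (t := x.1.trace) (s := x.1.trace)
          hg' hu (by rw [hr, trace_up]) ⟨(dg a)⁻¹, dg a * up 1, by
            rw [SL_trace_inv, trace_dg, ht], by
            rw [ht]; simp [trace_fin_two], by group⟩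
        exact ⟨A, B, hA, Or.inl hB, by rw [e]⟩
    rcases trace_eq_or_of_sq hr with h | h
    · exact key g hg' h
    · rw [← pr_neg]
      exact key (-g) (by rwa [SL_coe_neg, isScal_neg]) (by simp [h])
  · obtain ⟨A, B, hA, hB, e⟩ := exists_mul_of_GL_conj hg' (h := cmp g.1.trace)
      (not_isScal_comp _ _) (by simp) (exists_traces x.1.trace x.1.trace hr)
    exact ⟨A, B, hA, Or.inl hB, by rw [e]⟩

end Cfsg.Agent.SL2
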