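import Cfsg.Agent.Lib.SL2.PSL
import Cfsg.Agent.Lib.SL2.Borel
import Cfsg.Agent.Lib.SL2.Unip

/-!
# Solvable subgroups of `PSL₂(F)`
-/

set_option autoImplicit false
set_option backward.isDefEq.respectTransparency false

namespace Cfsg.Agent.SL2

open Matrix Subgroup
open scoped MatrixGroups commutatorElement

section General
variable {G : Type*} [Group G]

theorem exists_abelian_normal (K : Type*) [Group K] [h : Group.IsSolvable K] [Nontrivial K] :
    ∃ A : Subgroup K, A.Normal ∧ A ≠ ⊥ ∧ ∀ a ∈ A, ∀ b ∈ A, a * b = b * a := by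
  classical
  obtain ⟨n, hn⟩ := h.solvable
  have hex : ∃ n, derivedSeries K n = ⊥ := ⟨n, hn⟩
  have h0 : Nat.find hex ≠ 0 := by
    intro h0
    have := Nat.find_spec hex
    rw [h0] at this
    exact top_ne_bot this
  obtain ⟨m, hm⟩ := Nat.exists_eq_succ_of_ne_zero h0
  refine ⟨derivedSeries K m, derivedSeries_normal K m, Nat.find_min hex (by omega), fun a ha b hb => ?_⟩
  have h1 := Nat.find_spec hex
  rw [hm, derivedSeries_succ] at h1
  have : ⁅a, b⁆ ∈ (⊥ : Subgroup K) := h1 ▸ commutator_mem_commutator ha hb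
  exact commutatorElement_eq_one_iff_mul_comm.mp this

theorem isSolvable_of_le {H K : Subgroup G} (h : H ≤ K) [Group.IsSolvable K] : Group.IsSolvable H :=
  Group.isSolvable_of_isSolvable_injective (inclusion_injective h)

theorem solv_of_normalizer (A : Subgroup G) [Group.IsSolvable A] {x y : G}
    (hx : x ∈ normalizer (A : Set G)) (hy : y ∈ normalizer (A : Set G)) (hxy : ⁅x, y⁆ ∈ A) :
    Group.IsSolvable (closure ({x, y} : Set G)) := by
  set N := normalizer (A : Set G)
  have hle : closure ({x, y} : Set G) ≤ N := by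
    rw [closure_le]; rintro z (rfl | rfl); exacts [hx, hy]
  let f : closure ({x, y} : Set G) →* N ⧸ A.subgroupOf N := (QuotientGroup.mk' _).comp (inclusion hle)
  have hc : ∀ a b : closure ({x, y} : Set G), f a * f b = f b * f a := by
    have hxy' : Commute (f ⟨x, subset_closure (by simp)⟩) (f ⟨y, subset_closure (by simp)⟩) := by
      rw [← commutatorElement_eq_one_iff_commute, ← map_commutatorElement]
      exact (QuotientGroup.eq_one_iff _).mpr hxy
    have key : ∀ (a b : G) (ha : a ∈ closure ({x, y} : Set G)) (hb : b ∈ closure ({x, y} : Set G)),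
        Commute (f ⟨a, ha⟩) (f ⟨b, hb⟩) := by
      intro a b ha hb
      induction ha, hb using closure_induction₂ with
      | mem a b ha hb =>
        rcases ha with rfl | rfl <;> rcases hb with rfl | rfl
        exacts [Commute.refl _, hxy', hxy'.symm, Commute.refl _]
      | one_left b hb => exact (map_one f).symm ▸ Commute.one_left _
      | one_right b hb => exact (map_one f).symm ▸ Commute.one_right _
      | mul_left a b c ha hb hc h1 h2 => exact (map_mul f ⟨a, ha⟩ ⟨b, hb⟩).symm ▸ h1.mul_left h2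
      | mul_right b c a hb hc ha h1 h2 => exact (map_mul f ⟨b, hb⟩ ⟨c, hc⟩).symm ▸ h1.mul_right h2
      | inv_left a b ha hb h1 => exact (map_inv f ⟨a, ha⟩).symm ▸ h1.inv_left
      | inv_right a b ha hb h1 => exact (map_inv f ⟨b, hb⟩).symm ▸ h1.inv_right
    intro a b
    exact key a b a.2 b.2
  have h1 : Group.IsSolvable f.range := Group.isSolvable_of_comm (by
    rintro ⟨_, a, rfl⟩ ⟨_, b, rfl⟩; exact Subtype.ext (hc a b))
  have h2 : Group.IsSolvable f.ker := by
    let g : f.ker →* A := MonoidHom.codRestrict ((closure ({x, y} : Set G)).subtype.comp f.ker.subtype) A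
      (fun z => (QuotientGroup.eq_one_iff (N := A.subgroupOf N) (inclusion hle z.1)).mp z.2)
    exact Group.isSolvable_of_isSolvable_injective (f := g)
      (fun a b h => Subtype.ext (Subtype.ext (congrArg (fun z : A => (z : G)) h)))
  exact Group.isSolvable_of_ker_le_range f.ker.subtype f.rangeRestrict (by simp)

theorem solv_map {H : Type*} [Group H] (f : G →* H) {x y : G}
    (h : Group.IsSolvable (closure ({x, y} : Set G))) :
    Group.IsSolvable (closure ({f x, f y} : Set H)) := by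
  rw [← Set.image_pair, ← MonoidHom.map_closure]
  exact Group.isSolvable_of_surjective (f.subgroupMap_surjective _)

theorem card_sol_conj {x x' : G} (h : IsConj x x') :
    Nat.card {y : G // Group.IsSolvable (closure ({x, y} : Set G))} =
      Nat.card {y : G // Group.IsSolvable (closure ({x', y} : Set G))} := by
  obtain ⟨c, rfl⟩ := isConj_iff.mp h
  refine Nat.card_congr ((MulAut.conj c).toEquiv.subtypeEquiv fun y => ⟨fun h => ?_, fun h => ?_⟩)
  · exact solv_map (MulAut.conj c).toMonoidHom h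
  · have := solv_map (MulAut.conj c⁻¹).toMonoidHom h
    have e1 : (MulAut.conj c⁻¹).toMonoidHom (c * x * c⁻¹) = x := by simp [mul_assoc]
    have e2 : (MulAut.conj c⁻¹).toMonoidHom ((MulAut.conj c).toEquiv y) = y := by simp [mul_assoc]
    rwa [e1, e2] at this

end General

variable {F : Type*} [Field F]

/-- `⟨x, y⟩` is solvable modulo scalars -/
def Sv (x y : SL(2, F)) : Prop := Group.IsSolvable (closure ({pr x, pr y} : Set PSL(2, F)))

theorem Sv.symm {x y : SL(2, F)} (h : Sv x y) : Sv y x := by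
  unfold Sv; rwa [Set.pair_comm]

theorem card_sol_mul (x : SL(2, F)) :
    Nat.card {y : PSL(2, F) // Group.IsSolvable (closure ({pr x, y} : Set PSL(2, F)))} *
      Nat.card (center SL(2, F)) = Nat.card {y : SL(2, F) // Sv x y} := by
  have := QuotientGroup.card_preimage_mk (center SL(2, F))
    {y : PSL(2, F) | Group.IsSolvable (closure ({pr x, y} : Set PSL(2, F)))}
  rw [mul_comm] at this
  exact this.symm

theorem trace_comm_eq (x y : SL(2, F)) : (x * y * x⁻¹ * y⁻¹).1.trace =
    x.1.trace ^ 2 + y.1.trace ^ 2 + (x * y).1.trace ^ 2 - x.1.trace * y.1.trace * (x * y).1.trace - 2 := by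
  have hx := SL_det x
  have hy := SL_det y
  simp only [SL_coe_mul, SL_coe_inv, trace_fin_two, mul_apply2, of_apply, cons_val', cons_val_zero,
    cons_val_one, cons_val_fin_one]
  generalize x.1 0 0 = a at *; generalize x.1 0 1 = b at *; generalize x.1 1 0 = c at *
  generalize x.1 1 1 = d at *; generalize y.1 0 0 = e at *; generalize y.1 0 1 = f at *
  generalize y.1 1 0 = g at *; generalize y.1 1 1 = h at *
  linear_combination ((e + h) ^ 2 - 2 * (e * h - f * g)) * hx + ((a + d) ^ 2 - 2) * hy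

theorem trace_eq_zero_of_anticomm (h2 : (2 : F) ≠ 0) {a b : SL(2, F)} (h : a * b = -(b * a)) :
    a.1.trace = 0 := by
  have h1 : b⁻¹ * a * b⁻¹⁻¹ = -a := by rw [inv_inv, mul_assoc, h]; simp
  have h3 := SL_trace_conj a b⁻¹
  rw [h1, SL_coe_neg, trace_neg] at h3
  apply mul_left_cancel₀ h2
  linear_combination -h3

theorem trace_of_isScal {g : SL(2, F)} (h : IsScal g.1) : g.1.trace = 2 ∨ g.1.trace = -2 := by
  rcases SL_isScal_iff.1 h with rfl | rfl
  · left; simp [SL_coe_one]
  · right; simp [SL_coe_neg, SL_coe_one]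

/-- structure of the solvable subgroups -/
theorem solv_cases (H : Subgroup PSL(2, F)) [Group.IsSolvable H] :
    (∃ g : SL(2, F), ∀ h, pr h ∈ H → qf h.1 (g.1 0 0) (g.1 1 0) = 0) ∨
    (∃ s : SL(2, F), s.1.trace ^ 2 ≠ 4 ∧ ∀ h, pr h ∈ H → h * s * h⁻¹ = s ∨ h * s * h⁻¹ = s⁻¹) ∨
    ((2 : F) ≠ 0 ∧ ∀ h, pr h ∈ H → ∃ e1 e2 e3 : F, (e1 = 0 ∨ e1 = 2 ∨ e1 = -2) ∧
      (e2 = 0 ∨ e2 = 2 ∨ e2 = -2) ∧ (e3 = 0 ∨ e3 = 2 ∨ e3 = -2) ∧
      2 * h.1.trace ^ 2 = e1 + e2 + e3 + 2) := by
  rcases subsingleton_or_nontrivial H with hH | hH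
  · left
    refine ⟨1, fun h hh => ?_⟩
    have : pr h = 1 := congrArg Subtype.val (Subsingleton.elim (⟨pr h, hh⟩ : H) 1)
    have := pr_eq_one_iff.1 this
    simp [qf, SL_coe_one, this.2.1]
  obtain ⟨A, hAn, hA, hc⟩ := exists_abelian_normal H
  let B : Subgroup SL(2, F) := (A.map H.subtype).comap pr
  have hBH : ∀ a ∈ B, pr a ∈ H := by rintro a ⟨a', _, h⟩; exact h ▸ a'.2
  have hBc : ∀ a ∈ B, ∀ b ∈ B, a * b = b * a ∨ a * b = -(b * a) := by
    rintro a ⟨a', ha, h⟩ b ⟨b', hb, h'⟩
    rw [← pr_eq_iff, map_mul, map_mul, ← h, ← h']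
    exact congrArg Subtype.val (hc a' ha b' hb)
  have hBn : ∀ a ∈ B, ∀ h, pr h ∈ H → h * a * h⁻¹ ∈ B := by
    rintro a ⟨a', ha, e⟩ h hh
    refine ⟨_, hAn.conj_mem a' ha ⟨pr h, hh⟩, ?_⟩
    rw [map_mul, map_mul, map_mul, map_mul, map_inv, map_inv, e]; rfl
  obtain ⟨a, haB, ha⟩ : ∃ a ∈ B, ¬ IsScal a.1 := by
    obtain ⟨⟨a', ha'⟩, hne⟩ := (Subgroup.ne_bot_iff_exists_ne_one).mp hA
    obtain ⟨a, e⟩ := pr_surjective a'.1
    refine ⟨a, ⟨a', ha', e.symm⟩, fun h => hne (Subtype.ext (Subtype.ext ?_))⟩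
    rw [← pr_eq_one_iff, e] at h; exact h
  by_cases hcomm : ∀ a ∈ B, ∀ b ∈ B, a * b = b * a
  · by_cases ht : a.1.trace ^ 2 = 4
    · left
      obtain ⟨b, hb, g, hg⟩ : ∃ b : F, b ≠ 0 ∧ ∃ g : SL(2, F), g * up b * g⁻¹ = a ∨ g * up b * g⁻¹ = -a := by
        rcases trace_eq_or_of_sq ht with h | h
        · obtain ⟨b, hb, hc⟩ := isConj_up ha h
          obtain ⟨g, hg⟩ := isConj_iff.1 hc.symm
          exact ⟨b, hb, g, Or.inl hg⟩
        · obtain ⟨b, hb, hc⟩ := isConj_neg_up ha h
          obtain ⟨g, hg⟩ := isConj_iff.1 hc.symm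
          exact ⟨b, hb, g, Or.inr (by rw [← hg]; simp)⟩
      refine ⟨g, fun h hh => ?_⟩
      rw [← inv_mul_mul_apply_one_zero, ← SL_coe_mul, ← SL_coe_mul]
      have h1 := hcomm _ (hBn a haB h hh) a haB
      set k := g⁻¹ * h * g with hk
      have h2 : k * up b * k⁻¹ * up b = up b * (k * up b * k⁻¹) := by
        have h3 : h * (g * up b * g⁻¹) * h⁻¹ * (g * up b * g⁻¹) =
            g * up b * g⁻¹ * (h * (g * up b * g⁻¹) * h⁻¹) := by
          rcases hg with hg | hg <;> rw [hg]
          · exact h1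
          · simpa using h1
        calc k * up b * k⁻¹ * up b = g⁻¹ * (h * (g * up b * g⁻¹) * h⁻¹ * (g * up b * g⁻¹)) * g := by
              rw [hk]; group
          _ = _ := by rw [h3, hk]; group
      have h4 := congrFun (congrFun (SL_coe_congr h2) 0) 0
      simp only [SL_coe_mul, SL_coe_inv, mul_apply2, coe_up, of_apply, cons_val', cons_val_zero,
        cons_val_one, cons_val_fin_one] at h4
      have h5 : b ^ 2 * k.1 1 0 ^ 2 = 0 := by linear_combination h4
      simpa [hb] using h5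
    · right; left
      exact ⟨a, ht, fun h hh => eq_or_eq_inv_of_trace ht (mem_cent_iff.2 (hcomm _ (hBn a haB h hh) a haB))
        (SL_trace_conj a h)⟩
  · right; right
    push Not at hcomm
    obtain ⟨i, hi, j, hj, hij⟩ := hcomm
    have hij' := (hBc i hi j hj).resolve_left hij
    have h2 : (2 : F) ≠ 0 := fun h => hij (by rw [hij', SL_neg_eq_self h])
    have hti := trace_eq_zero_of_anticomm h2 hij'
    have htj : j.1.trace = 0 := trace_eq_zero_of_anticomm h2 (b := i) (by rw [hij', neg_neg])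
    have htk : (i * j).1.trace = 0 := trace_eq_zero_of_anticomm h2 (b := i) (by
      rw [← mul_neg, mul_assoc, hij', neg_neg])
    have htr : ∀ c ∈ B, c.1.trace = 0 ∨ c.1.trace = 2 ∨ c.1.trace = -2 := by
      intro c hc
      rcases hBc c hc i hi with h | h
      · rcases hBc c hc j hj with h' | h'
        · right
          apply trace_of_isScal
          by_contra hs
          exact hij (SL_cent_comm hs (mem_cent_iff.2 h.symm) (mem_cent_iff.2 h'.symm))
        · exact Or.inl (trace_eq_zero_of_anticomm h2 h')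
      · exact Or.inl (trace_eq_zero_of_anticomm h2 h)
    refine ⟨h2, fun h hh => ?_⟩
    have hm : ∀ c ∈ B, c * h * c⁻¹ * h⁻¹ ∈ B := fun c hc => by
      have := mul_mem hc (hBn _ (inv_mem hc) h hh)
      simpa [mul_assoc] using this
    refine ⟨_, _, _, htr _ (hm i hi), htr _ (hm j hj), htr _ (hm _ (mul_mem hi hj)), ?_⟩
    have e1 := trace_comm_eq i (j * h)
    have e2 : i * (j * h) * i⁻¹ * (j * h)⁻¹ = -(j * (i * h * i⁻¹ * h⁻¹) * j⁻¹) := by
      rw [← mul_assoc, hij']; simp [mul_assoc]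
    rw [e2, SL_coe_neg, trace_neg, SL_trace_conj, ← mul_assoc] at e1
    simp only [trace_comm_eq, hti, htj, htk] at e1 ⊢
    linear_combination e1

theorem Sv.cases {x y : SL(2, F)} (h : Sv x y) :
    (∃ g : SL(2, F), qf x.1 (g.1 0 0) (g.1 1 0) = 0 ∧ qf y.1 (g.1 0 0) (g.1 1 0) = 0) ∨
    (∃ s : SL(2, F), s.1.trace ^ 2 ≠ 4 ∧ (x * s * x⁻¹ = s ∨ x * s * x⁻¹ = s⁻¹) ∧
      (y * s * y⁻¹ = s ∨ y * s * y⁻¹ = s⁻¹)) ∨
    ((2 : F) ≠ 0 ∧ ((3 : F) = 0 → ¬ IsSquare (-1 : F) → ∀ h, h = x ∨ h = y ∨ h = x * y →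
      h.1.trace = 0 ∨ h.1.trace = 1 ∨ h.1.trace = -1)) := by
  have hx : pr x ∈ closure ({pr x, pr y} : Set PSL(2, F)) := subset_closure (by simp)
  have hy : pr y ∈ closure ({pr x, pr y} : Set PSL(2, F)) := subset_closure (by simp)
  have : Group.IsSolvable (closure ({pr x, pr y} : Set PSL(2, F))) := h
  rcases solv_cases (closure ({pr x, pr y} : Set PSL(2, F))) with ⟨g, hg⟩ | ⟨s, hs, hs'⟩ | ⟨h2, h'⟩
  · exact Or.inl ⟨g, hg x hx, hg y hy⟩
  · exact Or.inr (Or.inl ⟨s, hs, hs' x hx, hs' y hy⟩)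
  · refine Or.inr (Or.inr ⟨h2, fun h3 hsq z hz => ?_⟩)
    have hz' : pr z ∈ closure ({pr x, pr y} : Set PSL(2, F)) := by
      rcases hz with rfl | rfl | rfl
      exacts [hx, hy, by rw [map_mul]; exact mul_mem hx hy]
    obtain ⟨e1, e2, e3, h1, h2', h3', he⟩ := h' z hz'
    generalize z.1.trace = t at *
    have k : ∀ e : F, e = 0 ∨ e = 2 ∨ e = -2 → e ^ 3 = e := by
      rintro e (rfl | rfl | rfl)
      · simp
      · linear_combination 2 * h3
      · linear_combination -2 * h3
    have k1 := k _ h1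
    have k2 := k _ h2'
    have k3 := k _ h3'
    have k4 : (t ^ 2) ^ 3 = t ^ 2 := by
      have : t ^ 2 = -(e1 + e2 + e3 + 2) := by linear_combination -he + t ^ 2 * h3
      rw [this]
      linear_combination -k1 - k2 - k3 - ((e1 + e2) * (e1 + e3 + 2) * (e2 + e3 + 2) +
        (e3 * 2 * (e3 + 2)) + 2) * h3
    have k5 : t ^ 2 * (t - 1) * (t + 1) * (t ^ 2 + 1) = 0 := by linear_combination k4
    have k6 : t ^ 2 + 1 ≠ 0 := fun h => hsq ⟨t, by linear_combination -h⟩
    simp only [mul_eq_zero, k6, or_false, pow_eq_zero_iff two_ne_zero] at k5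
    rcases k5 with (k5 | k5) | k5
    · exact Or.inl k5
    · exact Or.inr (Or.inl (sub_eq_zero.1 k5))
    · exact Or.inr (Or.inr (eq_neg_of_add_eq_zero_left k5))

theorem Sv.of_SL {x y : SL(2, F)} (h : Group.IsSolvable (closure ({x, y} : Set SL(2, F)))) : Sv x y :=
  solv_map pr h

theorem sv_of_normalizer_cent {s x y : SL(2, F)} (hs : s.1.trace ^ 2 ≠ 4)
    (hx : x * s * x⁻¹ = s ∨ x * s * x⁻¹ = s⁻¹) (hy : y * s * y⁻¹ = s ∨ y * s * y⁻¹ = s⁻¹) : Sv x y := by
  have : Group.IsSolvable (centralizer ({s} : Set SL(2, F))) := Group.isSolvable_of_comm fun a b =>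
    Subtype.ext (SL_cent_comm (SL_not_isScal_of_trace hs) a.2 b.2)
  refine Sv.of_SL (solv_of_normalizer (centralizer {s}) ((mem_normalizer_cent_iff hs).2 hx)
    ((mem_normalizer_cent_iff hs).2 hy) (mem_cent_iff.2 ?_))
  have k : ∀ z : SL(2, F), z * s * z⁻¹ = s⁻¹ → z * s⁻¹ * z⁻¹ = s := fun z hz => by
    calc _ = (z * s * z⁻¹)⁻¹ := by group
      _ = _ := by rw [hz, inv_inv]
  have k' : ∀ z : SL(2, F), z * s * z⁻¹ = s → z * s⁻¹ * z⁻¹ = s⁻¹ := fun z hz => by
    rw [← _root_.inv_inj, inv_inv]; conv_rhs => rw [← hz]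
    group
  have : x * (y * s * y⁻¹) * x⁻¹ = y * (x * s * x⁻¹) * y⁻¹ := by
    rcases hx with hx | hx <;> rcases hy with hy | hy <;> rw [hx, hy]
    · rw [hx]
    · rw [k' x hx]
    · rw [hx, k' y hy]
    · rw [k x hx, k y hy]
  have h2 : (y * x)⁻¹ * (x * y) * s = s * ((y * x)⁻¹ * (x * y)) := by
    calc _ = (y * x)⁻¹ * (x * (y * s * y⁻¹) * x⁻¹) * (x * y) := by group
      _ = _ := by rw [this]; group
  have h3 : ⁅x, y⁆ = (y * x) * ((y * x)⁻¹ * (x * y)) * (y * x)⁻¹ := by
    rw [commutatorElement_def]; group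
  have h4 : (y * x) * ((y * x)⁻¹ * (x * y)) * (y * x)⁻¹ ∈ centralizer ({s} : Set SL(2, F)) :=
    (mul_mem ((mem_normalizer_cent_iff hs).2 hy) ((mem_normalizer_cent_iff hs).2 hx) _).1 (mem_cent_iff.2 h2)
  rw [h3]; exact mem_cent_iff.1 h4

theorem sv_of_commute {x y : SL(2, F)} (h : x * y = y * x) : Sv x y :=
  Sv.of_SL (solv_of_normalizer ⊥ (by rw [normalizer_eq_top]; trivial) (by rw [normalizer_eq_top]; trivial)
    (commutatorElement_eq_one_iff_mul_comm.2 h))

theorem sv_of_bor {x y : SL(2, F)} (hx : x.1 1 0 = 0) (hy : y.1 1 0 = 0) : Sv x y := by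
  have : Group.IsSolvable (upHom (F := F)).range :=
    Group.isSolvable_of_surjective (upHom (F := F)).rangeRestrict_surjective
  have hm : ∀ z : SL(2, F), z ∈ (upHom (F := F)).range ↔ z.1 0 0 = 1 ∧ z.1 1 1 = 1 ∧ z.1 1 0 = 0 := by
    intro z
    constructor
    · rintro ⟨b, rfl⟩; simp
    · rintro ⟨h1, h2, h3⟩
      exact ⟨Multiplicative.ofAdd (z.1 0 1), (eq_up_of_entries h1 h2 h3).symm⟩
  have hn : ∀ z : SL(2, F), z.1 1 0 = 0 → z ∈ normalizer ((upHom (F := F)).range : Set SL(2, F)) := by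
    have k : ∀ z w : SL(2, F), z.1 1 0 = 0 → w ∈ (upHom (F := F)).range →
        z * w * z⁻¹ ∈ (upHom (F := F)).range := by
      intro z w hz hw
      have hd := bor_diag hz
      rw [hm] at hw ⊢
      simp only [SL_coe_mul, SL_coe_inv, mul_apply2, of_apply, cons_val', cons_val_zero,
        cons_val_one, cons_val_fin_one, hz, hw.1, hw.2.1, hw.2.2]
      refine ⟨by linear_combination hd, by linear_combination hd, by ring⟩
    intro z hz w
    refine ⟨k z w hz, fun h => ?_⟩
    have := k z⁻¹ _ (by rw [SL_coe_inv]; simp [hz]) h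
    simpa [mul_assoc] using this
  refine Sv.of_SL (solv_of_normalizer _ (hn x hx) (hn y hy) ?_)
  have h1 := bor_diag hx
  have h2 := bor_diag hy
  rw [hm, commutatorElement_def]
  simp only [SL_coe_mul, SL_coe_inv, mul_apply2, of_apply, cons_val', cons_val_zero,
    cons_val_one, cons_val_fin_one, hx, hy]
  refine ⟨?_, ?_, by ring⟩
  · linear_combination (y.1 0 0 * y.1 1 1) * h1 + h2
  · linear_combination (y.1 0 0 * y.1 1 1) * h1 + h2

theorem Sv.conj {x y : SL(2, F)} (h : Sv x y) (g : SL(2, F)) : Sv (g * x * g⁻¹) (g * y * g⁻¹) := by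
  have := solv_map (MulAut.conj (pr g)).toMonoidHom h
  unfold Sv
  simpa using this

theorem sv_of_lower {x y : SL(2, F)} (hx : x.1 0 1 = 0) (hy : y.1 0 1 = 0) : Sv x y := by
  have := (sv_of_bor (x := wt * x * wt⁻¹) (y := wt * y * wt⁻¹)
    (by simp only [SL_coe_mul, SL_coe_inv, mul_apply2]; simp [hx])
    (by simp only [SL_coe_mul, SL_coe_inv, mul_apply2]; simp [hy])).conj wt⁻¹
  simpa [mul_assoc] using this

theorem sv_of_trace_zero {x y : SL(2, F)} (hx : x.1.trace = 0) (hy : y.1.trace = 0) : Sv x y := by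
  have hx' := SL_inv_eq_neg_of_trace hx
  have hy' := SL_inv_eq_neg_of_trace hy
  have hx2 := SL_mul_self_of_trace_eq_zero hx
  have hy2 := SL_mul_self_of_trace_eq_zero hy
  by_cases hs : IsScal (x * y).1
  · apply sv_of_commute
    have := SL_mem_center_iff.2 hs
    have h1 := mem_center_iff.1 this y
    apply mul_right_cancel (b := y)
    rw [← h1, mul_assoc]
  have : Group.IsSolvable (centralizer ({x * y} : Set SL(2, F))) := Group.isSolvable_of_comm fun a b =>
    Subtype.ext (SL_cent_comm hs a.2 b.2)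
  have hn : ∀ z : SL(2, F), z * (x * y) * z⁻¹ = (x * y)⁻¹ →
      z ∈ normalizer (centralizer ({x * y} : Set SL(2, F)) : Set SL(2, F)) := by
    have k : ∀ z w : SL(2, F), z * (x * y) * z⁻¹ = (x * y)⁻¹ → w ∈ centralizer ({x * y} : Set SL(2, F)) →
        z * w * z⁻¹ ∈ centralizer ({x * y} : Set SL(2, F)) := fun z w hz hw => by
      rw [inverter_inverts hs hz hw]; exact inv_mem hw
    intro z hz w
    refine ⟨k z w hz, fun h => ?_⟩
    have := k z⁻¹ _ (by
      rw [inv_inv, ← _root_.inv_inj, inv_inv]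
      calc _ = z⁻¹ * (x * y)⁻¹ * z := by group
        _ = _ := by rw [← hz]; group) h
    simpa [mul_assoc] using this
  refine Sv.of_SL (solv_of_normalizer _ (hn x ?_) (hn y ?_) ?_)
  · rw [_root_.mul_inv_rev, hx', hy', ← mul_assoc, hx2]; simp
  · rw [_root_.mul_inv_rev, hx', hy', mul_neg, mul_assoc, mul_assoc, hy2]; simp
  · rw [commutatorElement_def, hx', hy', mem_cent_iff]; simp [mul_assoc]

theorem Sv.of_mul {x y : SL(2, F)} (h : Sv x (x * y)) : Sv x y := by
  unfold Sv at h ⊢
  refine isSolvable_of_le (K := closure ({pr x, pr (x * y)} : Set PSL(2, F))) ?_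
  rw [closure_le]
  have hx : pr x ∈ closure ({pr x, pr (x * y)} : Set PSL(2, F)) := subset_closure (by simp)
  have hy : pr (x * y) ∈ closure ({pr x, pr (x * y)} : Set PSL(2, F)) := subset_closure (by simp)
  rintro z (rfl | rfl)
  · exact hx
  · simpa using mul_mem (inv_mem hx) hy

/-! ### `SL₂(3)` -/

theorem isSolvable_SL23 : Group.IsSolvable SL(2, ZMod 3) := by
  let Q : Subgroup SL(2, ZMod 3) :=
    { carrier := {g | g.1.trace = 0 ∨ IsScal g.1}
      mul_mem' := by
        intro x y hx hy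
        have h1 := SL_det x
        have h2 := SL_det y
        simp only [Set.mem_ofPred_eq, IsScal, SL_coe_mul, trace_fin_two, mul_apply2] at hx hy ⊢
        generalize x.1 0 0 = a at *; generalize x.1 0 1 = b at *; generalize x.1 1 0 = c at *
        generalize x.1 1 1 = d at *; generalize y.1 0 0 = e at *; generalize y.1 0 1 = f at *
        generalize y.1 1 0 = g at *; generalize y.1 1 1 = h at *
        revert a b c d e f g h
        decide +kernel
      one_mem' := Or.inr isScal_one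
      inv_mem' := by
        rintro x (hx | hx)
        · exact Or.inl (by rw [SL_trace_inv, hx])
        · exact Or.inr (SL_mem_center_iff.1 (inv_mem (SL_mem_center_iff.2 hx))) }
  have h1 : derivedSeries SL(2, ZMod 3) 1 ≤ Q := by
    rw [derivedSeries_succ, commutator_le]
    intro x _ y _
    have h1 := SL_det x
    have h2 := SL_det y
    change _ ∨ _
    simp only [commutatorElement_def, IsScal, SL_coe_mul, SL_coe_inv, trace_fin_two, mul_apply2, of_apply,
      cons_val', cons_val_zero, cons_val_one, cons_val_fin_one]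
    generalize x.1 0 0 = a at *; generalize x.1 0 1 = b at *; generalize x.1 1 0 = c at *
    generalize x.1 1 1 = d at *; generalize y.1 0 0 = e at *; generalize y.1 0 1 = f at *
    generalize y.1 1 0 = g at *; generalize y.1 1 1 = h at *
    revert a b c d e f g h
    decide +kernel
  have h2 : derivedSeries SL(2, ZMod 3) 2 ≤ center _ := by
    rw [derivedSeries_succ, commutator_le]
    intro x hx y hy
    have hx : _ ∨ _ := h1 hx
    have hy : _ ∨ _ := h1 hy
    have h1 := SL_det x
    have h2 := SL_det y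
    rw [SL_mem_center_iff]
    simp only [commutatorElement_def, IsScal, SL_coe_mul, SL_coe_inv, trace_fin_two, mul_apply2, of_apply,
      cons_val', cons_val_zero, cons_val_one, cons_val_fin_one] at hx hy ⊢
    generalize x.1 0 0 = a at *; generalize x.1 0 1 = b at *; generalize x.1 1 0 = c at *
    generalize x.1 1 1 = d at *; generalize y.1 0 0 = e at *; generalize y.1 0 1 = f at *
    generalize y.1 1 0 = g at *; generalize y.1 1 1 = h at *
    revert a b c d e f g h
    decide +kernel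
  refine ⟨⟨3, ?_⟩⟩
  rw [derivedSeries_succ, eq_bot_iff, commutator_le]
  intro x hx y _
  exact commutatorElement_eq_one_iff_mul_comm.2 (mem_center_iff.1 (h2 hx) y).symm

/-- conjugation by `diag(b, 1)` -/
def scaleHom (b : F) (hb : b ≠ 0) : SL(2, F) →* SL(2, F) :=
  MonoidHom.mk' (fun g => ⟨!![g.1 0 0, b * g.1 0 1; b⁻¹ * g.1 1 0, g.1 1 1], by
    have := SL_det g
    rw [det_fin_two_of]; field_simp; linear_combination this⟩) (fun x y => SL_ext (by
      apply mat_ext <;> simp only [SL_coe_mul, mul_apply2, of_apply, cons_val', cons_val_zero,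
        cons_val_one, cons_val_fin_one] <;> field_simp))

theorem sv_up_three (h3 : (3 : F) = 0) {b : F} {y : SL(2, F)}
    (hc : b * y.1 1 0 = 1 ∨ b * y.1 1 0 = -1)
    (ht : y.1.trace = 0 ∨ y.1.trace = 1 ∨ y.1.trace = -1) : Sv (up b) y := by
  have : Fact (Nat.Prime 3) := ⟨Nat.prime_three⟩
  have : CharP F 3 := (CharP.charP_iff_prime_eq_zero Nat.prime_three).2 (by exact_mod_cast h3)
  have hb : b ≠ 0 := by rintro rfl; simp at hc
  have hc0 : y.1 1 0 ≠ 0 := by intro h; simp [h] at hc
  obtain ⟨e, he, he2⟩ : ∃ e : ZMod 3, ZMod.castHom (dvd_refl 3) F e = b * y.1 1 0 ∧ e * e = 1 := by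
    rcases hc with h | h
    · exact ⟨1, by rw [map_one, h], by norm_num⟩
    · exact ⟨-1, by rw [map_neg, map_one, h], by norm_num⟩
  obtain ⟨t, ht⟩ : ∃ t : ZMod 3, ZMod.castHom (dvd_refl 3) F t = y.1.trace := by
    rcases ht with h | h | h
    · exact ⟨0, by rw [map_zero, h]⟩
    · exact ⟨1, by rw [map_one, h]⟩
    · exact ⟨-1, by rw [map_neg, map_one, h]⟩
  let f : SL(2, ZMod 3) →* SL(2, F) := (MulAut.conj (up (y.1 0 0 / y.1 1 0))).toMonoidHom.comp
    ((scaleHom b hb).comp (SpecialLinearGroup.map (ZMod.castHom (dvd_refl 3) F)))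
  have := isSolvable_SL23
  have h0 := solv_map f (x := up 1) (y := ⟨!![0, -e; e, t], by rw [det_fin_two_of]; simp [he2]⟩)
    inferInstance
  have hd := SL_det y
  have hbc : (b * y.1 1 0) ^ 2 = 1 := by rcases hc with h | h <;> rw [h] <;> norm_num
  rw [trace_fin_two] at ht
  convert Sv.of_SL h0 using 1
  · apply SL_ext
    apply mat_ext <;> simp only [f, MulEquiv.toMonoidHom_eq_coe, MonoidHom.comp_apply, MonoidHom.coe_coe,
      MulAut.conj_apply, up_inv, SL_coe_mul, mul_apply2, scaleHom, MonoidHom.mk'_apply] <;> simp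
  · apply SL_ext
    apply mat_ext <;> simp only [f, MulEquiv.toMonoidHom_eq_coe, MonoidHom.comp_apply, MonoidHom.coe_coe,
      MulAut.conj_apply, up_inv, SL_coe_mul, mul_apply2, scaleHom, MonoidHom.mk'_apply,
      SpecialLinearGroup.map_apply_coe, RingHom.mapMatrix_apply, map_apply, of_apply, cons_val', cons_val_zero,
      cons_val_one, cons_val_fin_one, map_neg, he, ht, map_zero, coe_up] <;> field_simp
    · ring
    · linear_combination hbc - hd
    · ring
    · ring

/-! ### the solubilizers -/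

theorem trace_up_mul (b : F) (y : SL(2, F)) : (up b * y).1.trace = y.1.trace + b * y.1 1 0 := by
  simp only [SL_coe_mul, trace_fin_two, mul_apply2]; simp; ring

theorem col_ne_zero (g : SL(2, F)) : g.1 0 0 ≠ 0 ∨ g.1 1 0 ≠ 0 := by
  by_contra h
  push Not at h
  have := SL_det g
  simp [h.1, h.2] at this

theorem trace_or_of_inverts {s x y : SL(2, F)} (hs : s.1.trace ^ 2 ≠ 4) (hx : x * s * x⁻¹ = s⁻¹)
    (hy : y * s * y⁻¹ = s ∨ y * s * y⁻¹ = s⁻¹) : y.1.trace = 0 ∨ (x * y).1.trace = 0 := by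
  rcases hy with hy | hy
  · refine Or.inr (inverter_trace hs ?_)
    rw [← hx]; conv_rhs => rw [← hy]
    group
  · exact Or.inl (inverter_trace hs hy)

theorem bor_of_qf_up {b : F} (hb : b ≠ 0) {y g : SL(2, F)} (h1 : qf (up b).1 (g.1 0 0) (g.1 1 0) = 0)
    (h2 : qf y.1 (g.1 0 0) (g.1 1 0) = 0) : y.1 1 0 = 0 := by
  have h3 : g.1 1 0 = 0 := by simpa [qf, hb] using h1
  have h4 := (col_ne_zero g).resolve_right (not_not.2 h3)
  simpa [qf, h3, h4] using h2

theorem not_commute_up {b : F} (hb : b ≠ 0) {s : SL(2, F)} (hs : s.1.trace ^ 2 ≠ 4) :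
    up b * s * (up b)⁻¹ ≠ s := fun h =>
  SL_trace_sq_ne_of_mem hs (by rw [isScal_up_iff]; exact hb)
    (mem_cent_iff.2 (mul_inv_eq_iff_eq_mul.1 h)) (by rw [trace_up]; norm_num)

theorem sv_up_iff_even (h2 : (2 : F) = 0) {b : F} (hb : b ≠ 0) (y : SL(2, F)) :
    Sv (up b) y ↔ y.1 1 0 = 0 ∨ y.1.trace = 0 ∨ (up b * y).1.trace = 0 := by
  constructor
  · intro h
    rcases h.cases with ⟨g, h1, h3⟩ | ⟨s, hs, hx, hy⟩ | ⟨h, _⟩
    · exact Or.inl (bor_of_qf_up hb h1 h3)
    · exact Or.inr (trace_or_of_inverts hs (hx.resolve_left (not_commute_up hb hs)) hy)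
    · exact absurd h2 h
  · rintro (h | h | h)
    · exact sv_of_bor (by simp) h
    · exact sv_of_trace_zero (by rw [trace_up, h2]) h
    · exact (sv_of_trace_zero (by rw [trace_up, h2]) h).of_mul

theorem sv_up_iff_three (h3 : (3 : F) = 0) (hsq : ¬ IsSquare (-1 : F)) {b : F} (hb : b ≠ 0)
    (y : SL(2, F)) : Sv (up b) y ↔ y.1 1 0 = 0 ∨ ((b * y.1 1 0 = 1 ∨ b * y.1 1 0 = -1) ∧
      (y.1.trace = 0 ∨ y.1.trace = 1 ∨ y.1.trace = -1)) := by
  have h2 : (2 : F) ≠ 0 := fun h => one_ne_zero (α := F) (by linear_combination h3 - h)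
  constructor
  · intro h
    rcases h.cases with ⟨g, h1, h3⟩ | ⟨s, hs, hx, hy⟩ | ⟨_, h⟩
    · exact Or.inl (bor_of_qf_up hb h1 h3)
    · have := inverter_trace hs (hx.resolve_left (not_commute_up hb hs))
      rw [trace_up] at this
      exact absurd this h2
    · have k1 := h h3 hsq y (by simp)
      have k2 := h h3 hsq (up b * y) (by simp)
      rw [trace_up_mul] at k2
      by_cases hc : y.1 1 0 = 0
      · exact Or.inl hc
      refine Or.inr ⟨?_, k1⟩
      have hbc := mul_ne_zero hb hc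
      generalize b * y.1 1 0 = u at *
      rcases k1 with k1 | k1 | k1 <;> rcases k2 with k2 | k2 | k2 <;> rw [k1] at k2 <;>
        first
        | exact absurd (by linear_combination k2) hbc
        | exact Or.inl (by linear_combination k2)
        | exact Or.inr (by linear_combination k2)
        | exact Or.inl (by linear_combination k2 - h3)
        | exact Or.inr (by linear_combination k2 + h3)
  · rintro (h | ⟨h, h'⟩)
    · exact sv_of_bor (by simp) h
    · exact sv_up_three h3 h h'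

theorem sv_regular {x y : SL(2, F)} (hx : x.1.trace ^ 2 ≠ 4) (ht : x.1.trace ≠ 0)
    (hF : (2 : F) = 0 ∨ ((3 : F) = 0 ∧ ¬ IsSquare (-1 : F))) (h : Sv x y) :
    (∃ g : SL(2, F), qf x.1 (g.1 0 0) (g.1 1 0) = 0 ∧ qf y.1 (g.1 0 0) (g.1 1 0) = 0) ∨
      y * x * y⁻¹ = x ∨ y * x * y⁻¹ = x⁻¹ := by
  rcases h.cases with h | ⟨s, hs, h1, hy⟩ | ⟨h2, h⟩
  · exact Or.inl h
  · right
    have h1 := h1.resolve_right fun h => ht (inverter_trace hs h)
    have := SL_cent_eq_of_mem (SL_not_isScal_of_trace hs) (SL_not_isScal_of_trace hx)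
      (mem_cent_iff.2 (mul_inv_eq_iff_eq_mul.1 h1))
    rwa [← mem_normalizer_cent_iff hx, this, mem_normalizer_cent_iff hs]
  · obtain ⟨h3, hsq⟩ := hF.resolve_left h2
    rcases h h3 hsq x (by simp) with h | h | h
    · exact absurd h ht
    · exact absurd (by rw [h]; linear_combination -h3) hx
    · exact absurd (by rw [h]; linear_combination -h3) hx

theorem sv_noRoot_iff {x : SL(2, F)} (hx : ∀ c : F, c ^ 2 - x.1.trace * c + 1 ≠ 0) (ht : x.1.trace ≠ 0)
    (hF : (2 : F) = 0 ∨ ((3 : F) = 0 ∧ ¬ IsSquare (-1 : F))) [Finite F] (y : SL(2, F)) :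
    Sv x y ↔ y ∈ normalizer (centralizer ({x} : Set SL(2, F)) : Set SL(2, F)) := by
  have hx4 := SL_trace_sq_ne_of_noRoot hx
  rw [mem_normalizer_cent_iff hx4]
  constructor
  · intro h
    refine (sv_regular hx4 ht hF h).resolve_left ?_
    rintro ⟨g, h1, -⟩
    rw [← inv_mul_mul_apply_one_zero, ← SL_coe_mul, ← SL_coe_mul] at h1
    have h2 := bor_diag h1
    have h3 := SL_trace_conj x g⁻¹
    rw [inv_inv, trace_fin_two] at h3
    apply hx ((g⁻¹ * x * g).1 0 0)
    rw [← h3]; linear_combination -h2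
  · intro h
    exact sv_of_normalizer_cent hx4 (Or.inl (by group)) h

theorem sv_dg_iff {a : Fˣ} (ha : (a : F) ^ 2 ≠ 1) (ht : (dg a).1.trace ≠ 0)
    (hF : (2 : F) = 0 ∨ ((3 : F) = 0 ∧ ¬ IsSquare (-1 : F))) (y : SL(2, F)) :
    Sv (dg a) y ↔ y.1 1 0 = 0 ∨ y.1 1 1 = (y.1 0 0)⁻¹ := by
  have hx4 : (dg a).1.trace ^ 2 ≠ 4 := by rw [trace_dg]; exact trace_sq_ne_of_sq_ne ha
  have haa : (a : F)⁻¹ - a ≠ 0 := fun h => ha (by
    have : (a : F) * (a : F)⁻¹ = 1 := mul_inv_cancel₀ a.ne_zero
    linear_combination this - a * h)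
  have hd := SL_det y
  constructor
  · intro h
    rcases sv_regular hx4 ht hF h with ⟨g, h1, h2⟩ | h | h
    · have h3 : g.1 0 0 = 0 ∨ g.1 1 0 = 0 := by simpa [qf, haa] using h1
      rcases h3 with h3 | h3
      · have h4 := (col_ne_zero g).resolve_left (not_not.2 h3)
        have h5 : y.1 0 1 = 0 := by simpa [qf, h3, h4] using h2
        right
        apply eq_inv_of_mul_eq_one_right
        rw [h5] at hd; linear_combination hd
      · have h4 := (col_ne_zero g).resolve_right (not_not.2 h3)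
        left
        simpa [qf, h3, h4] using h2
    · left
      have := congrFun (congrFun (SL_coe_congr (mul_inv_eq_iff_eq_mul.1 h)) 1) 0
      simp only [SL_coe_mul, mul_apply2, coe_dg, of_apply, cons_val', cons_val_zero,
        cons_val_one, cons_val_fin_one] at this
      apply mul_left_cancel₀ haa
      linear_combination -this
    · right
      rw [dg_inv] at h
      have h0 := congrFun (congrFun (SL_coe_congr (mul_inv_eq_iff_eq_mul.1 h)) 0) 0
      have h1 := congrFun (congrFun (SL_coe_congr (mul_inv_eq_iff_eq_mul.1 h)) 1) 1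
      simp only [SL_coe_mul, mul_apply2, coe_dg, of_apply, cons_val', cons_val_zero,
        cons_val_one, cons_val_fin_one, Units.val_inv_eq_inv_val, inv_inv] at h0 h1
      have h2 : y.1 0 0 = 0 := by apply mul_left_cancel₀ haa; linear_combination -h0
      have h3 : y.1 1 1 = 0 := by apply mul_left_cancel₀ haa; linear_combination h1
      rw [h2, h3, _root_.inv_zero]
  · rintro (h | h)
    · exact sv_of_bor (by simp) h
    · by_cases h0 : y.1 0 0 = 0
      · rw [h0, _root_.inv_zero] at h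
        refine sv_of_normalizer_cent hx4 (Or.inl (by group)) (Or.inr ?_)
        rw [mul_inv_eq_iff_eq_mul, dg_inv]
        apply SL_ext
        apply mat_ext <;> simp only [SL_coe_mul, mul_apply2] <;> simp [h0, h, mul_comm]
      · rw [h, mul_inv_cancel₀ h0] at hd
        have : y.1 0 1 * y.1 1 0 = 0 := by linear_combination -hd
        rcases mul_eq_zero.1 this with h' | h'
        · exact sv_of_lower (by simp) h'
        · exact sv_of_bor (by simp) h'

theorem Sv.neg_left {x y : SL(2, F)} (h : Sv (-x) y) : Sv x y := by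
  unfold Sv at h ⊢; rwa [pr_neg] at h

theorem sv_three_of_traces (h3 : (3 : F) = 0) (hsq : ¬ IsSquare (-1 : F)) {x y : SL(2, F)}
    (hy : ¬ IsScal y.1) (hy2 : y.1.trace = 2) (hx : x.1.trace = 0)
    (hxy : (y * x).1.trace = 1 ∨ (y * x).1.trace = -1) : Sv y x := by
  obtain ⟨b, hb, hc⟩ := isConj_up hy hy2
  obtain ⟨g, rfl⟩ := isConj_iff.1 hc.symm
  have h1 := (sv_up_iff_three h3 hsq hb (g⁻¹ * x * g)).2 (Or.inr ⟨?_, Or.inl ?_⟩)
  · simpa [mul_assoc] using h1.conj g
  · have h4 := trace_up_mul b (g⁻¹ * x * g)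
    have h5 := SL_trace_conj x g⁻¹
    have h6 := SL_trace_conj (up b * (g⁻¹ * x * g)) g
    rw [inv_inv, hx] at h5
    rw [h5, zero_add] at h4
    rw [← h4, ← h6]
    simpa [mul_assoc] using hxy
  · have h5 := SL_trace_conj x g⁻¹
    rwa [inv_inv, hx] at h5

theorem sv_wt_iff (h3 : (3 : F) = 0) (hsq : ¬ IsSquare (-1 : F)) (y : SL(2, F)) :
    Sv wt y ↔ y.1.trace * (wt * y).1.trace = 0 ∨ y.1.trace ^ 2 + (wt * y).1.trace ^ 2 = 1 ∨
      (y.1.trace ^ 2 = 1 ∧ (wt * y).1.trace ^ 2 = 1) := by
  have h2 : (2 : F) ≠ 0 := fun h => one_ne_zero (α := F) (by linear_combination h3 - h)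
  have hw : (wt : SL(2, F)).1.trace = 0 := by simp [trace_fin_two]
  have hw4 : (wt : SL(2, F)).1.trace ^ 2 ≠ 4 := trace_sq_ne_of_trace_eq_zero h2 hw
  have hnr : ∀ c : F, c ^ 2 - 0 * c + 1 ≠ 0 := fun c h => hsq ⟨c, by linear_combination -h⟩
  have hd := SL_det y
  have htr : (wt * y).1.trace = y.1 1 0 - y.1 0 1 := by
    simp only [SL_coe_mul, trace_fin_two, mul_apply2]; simp; ring
  constructor
  · intro h
    rcases h.cases with ⟨g, h1, -⟩ | ⟨s, hs, hx, hy⟩ | ⟨_, h⟩
    · exfalso
      have : nf 0 1 (g.1 0 0) (g.1 1 0) = 0 := by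
        simp only [qf, coe_wt, of_apply, cons_val', cons_val_zero, cons_val_one, cons_val_fin_one] at h1
        unfold nf; linear_combination -h1
      rw [nf_eq_zero_iff hnr] at this
      rcases col_ne_zero g with h | h
      exacts [h this.1, h this.2]
    · rcases hx with hx | hx
      · have := SL_cent_eq_of_mem (SL_not_isScal_of_trace hs) (SL_not_isScal_of_trace hw4)
          (mem_cent_iff.2 (mul_inv_eq_iff_eq_mul.1 hx))
        rw [← mem_normalizer_cent_iff hs, ← this, mem_normalizer_cent_iff hw4] at hy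
        rcases hy with hy | hy
        · right; left
          have h0 := congrFun (congrFun (SL_coe_congr (mul_inv_eq_iff_eq_mul.1 hy)) 0) 0
          have h1 := congrFun (congrFun (SL_coe_congr (mul_inv_eq_iff_eq_mul.1 hy)) 0) 1
          simp only [SL_coe_mul, mul_apply2, coe_wt, of_apply, cons_val', cons_val_zero,
            cons_val_one, cons_val_fin_one] at h0 h1
          rw [htr, trace_fin_two]
          have e0 : y.1 0 1 = -y.1 1 0 := by linear_combination -h0
          have e1 : y.1 0 0 = y.1 1 1 := by linear_combination h1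
          rw [e0, e1] at hd ⊢
          linear_combination 4 * hd + h3
        · exact Or.inl (by rw [inverter_trace hw4 hy, zero_mul])
      · exact Or.inl (mul_eq_zero.2 (trace_or_of_inverts hs hx hy))
    · have k1 := h h3 hsq y (by simp)
      have k2 := h h3 hsq (wt * y) (by simp)
      rcases k1 with k1 | k1 | k1 <;> rcases k2 with k2 | k2 | k2 <;> rw [k1, k2] <;> simp
  · rintro (h | h | h)
    · rcases mul_eq_zero.1 h with h | h
      · exact sv_of_trace_zero hw h
      · exact (sv_of_trace_zero hw h).of_mul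
    · apply sv_of_commute
      have : nf 0 1 (y.1 0 0 - y.1 1 1) (y.1 0 1 + y.1 1 0) = 0 := by
        rw [htr, trace_fin_two] at h
        unfold nf; linear_combination h - 4 * hd - h3
      rw [nf_eq_zero_iff hnr] at this
      apply SL_ext
      apply mat_ext <;> simp only [SL_coe_mul, mul_apply2, coe_wt, of_apply, cons_val', cons_val_zero,
        cons_val_one, cons_val_fin_one]
      · linear_combination this.2
      · linear_combination -this.1
      · linear_combination -this.1
      · linear_combination -this.2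
    · have hy : ¬ IsScal y.1 := fun hs => by
        have h1 := h.2
        rw [htr, hs.1, hs.2.1] at h1
        simp at h1
      have hc : (y * wt).1.trace = (wt * y).1.trace := by rw [SL_coe_mul, SL_coe_mul, trace_mul_comm]
      have hu := sq_eq_one_iff_of_ne_zero_aux h.2
      apply Sv.symm
      rcases sq_eq_one_iff_of_ne_zero_aux h.1 with h1 | h1
      · refine (sv_three_of_traces h3 hsq (y := -y) (by simpa [isScal_neg] using hy)
          (by rw [SL_coe_neg, trace_neg, h1]; linear_combination -h3) hw ?_).neg_left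
        rw [neg_mul, SL_coe_neg, trace_neg, hc]
        rcases hu with hu | hu <;> rw [hu] <;> simp
      · exact sv_three_of_traces h3 hsq hy (by rw [h1]; linear_combination -h3) hw (hc ▸ hu)

/-! ### counting -/

theorem card_bor_or [Finite F] (P : SL(2, F) → Prop) :
    Nat.card {y : SL(2, F) // y.1 1 0 = 0 ∨ P y} =
      Nat.card F * (Nat.card F - 1) + Nat.card {y : SL(2, F) // y.1 1 0 ≠ 0 ∧ P y} := by
  classical
  rw [← card_bor, ← Nat.card_sum]
  have e : bor F ≃ {y : SL(2, F) // y.1 1 0 = 0} := Equiv.subtypeEquivRight fun y => mem_bor_iff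
  refine Nat.card_congr (Equiv.trans ?_ (Equiv.sumCongr e.symm (Equiv.refl _)))
  refine (Equiv.subtypeEquivRight (q := fun y => y.1 1 0 = 0 ∨ (y.1 1 0 ≠ 0 ∧ P y)) (by tauto)).trans ?_
  refine subtypeOrEquiv _ _ ?_
  rw [Pi.disjoint_iff]
  intro y
  simp only [Prop.disjoint_iff]
  tauto

theorem card_cne [Fintype F] [DecidableEq F] (T : F → F → Finset F) :
    Nat.card {y : SL(2, F) // y.1 1 0 ≠ 0 ∧ y.1 1 1 ∈ T (y.1 1 0) (y.1 0 0)} =
      ∑ c ∈ Finset.univ.erase (0 : F), ∑ a, (T c a).card := by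
  let f : (Σ c : Finset.univ.erase (0 : F), Σ a : F, T c a) →
      {y : SL(2, F) // y.1 1 0 ≠ 0 ∧ y.1 1 1 ∈ T (y.1 1 0) (y.1 0 0)} := fun p =>
    ⟨⟨!![p.2.1, (p.2.1 * p.2.2 - 1) / p.1; p.1, p.2.2], by
      have := Finset.ne_of_mem_erase p.1.2
      rw [det_fin_two_of]; field_simp; ring⟩, Finset.ne_of_mem_erase p.1.2, p.2.2.2⟩
  have hf : Function.Bijective f := by
    constructor
    · rintro ⟨⟨c, hc⟩, a, d, hd⟩ ⟨⟨c', hc'⟩, a', d', hd'⟩ h
      have h := SL_coe_congr (congrArg Subtype.val h)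
      obtain ⟨h1, -, h2, h3⟩ := mat_ext_iff.1 h
      simp only [f, of_apply, cons_val', cons_val_zero, cons_val_one, cons_val_fin_one] at h1 h2 h3
      subst h1 h2 h3
      rfl
    · rintro ⟨y, hy, hy'⟩
      refine ⟨⟨⟨y.1 1 0, by simpa using hy⟩, y.1 0 0, y.1 1 1, hy'⟩, Subtype.ext (SL_ext ?_)⟩
      have := SL_det y
      apply mat_ext <;> simp only [f, of_apply, cons_val', cons_val_zero, cons_val_one, cons_val_fin_one]
      field_simp
      linear_combination this
  rw [← Nat.card_congr (Equiv.ofBijective f hf), Nat.card_eq_fintype_card, Fintype.card_sigma]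
  simp only [Fintype.card_sigma, Fintype.card_coe]
  exact Finset.sum_coe_sort (Finset.univ.erase (0 : F)) (fun c => ∑ a, (T c a).card)

theorem card_sv_dg [Finite F] {a : Fˣ} (ha : (a : F) ^ 2 ≠ 1) (ht : (dg a).1.trace ≠ 0)
    (hF : (2 : F) = 0 ∨ ((3 : F) = 0 ∧ ¬ IsSquare (-1 : F))) :
    Nat.card {y : SL(2, F) // Sv (dg a) y} = 2 * Nat.card F * (Nat.card F - 1) := by
  classical
  have := Fintype.ofFinite F
  rw [Nat.card_congr (Equiv.subtypeEquivRight (sv_dg_iff ha ht hF)), card_bor_or]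
  have h := card_cne (F := F) (fun _ a => {a⁻¹})
  simp only [Finset.mem_singleton] at h
  rw [h]
  simp [Finset.card_erase_of_mem]
  ring

theorem card_sv_noRoot [Finite F] {x : SL(2, F)} (hx : ∀ c : F, c ^ 2 - x.1.trace * c + 1 ≠ 0)
    (ht : x.1.trace ≠ 0) (hF : (2 : F) = 0 ∨ ((3 : F) = 0 ∧ ¬ IsSquare (-1 : F))) :
    Nat.card {y : SL(2, F) // Sv x y} = 2 * (Nat.card F + 1) := by
  rw [Nat.card_congr (Equiv.subtypeEquivRight (sv_noRoot_iff hx ht hF)), ← card_cent_SL_noRoot hx,
    ← card_normalizer_cent (SL_trace_sq_ne_of_noRoot hx)]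

theorem card_sv_up_even [Finite F] (h2 : (2 : F) = 0) {b : F} (hb : b ≠ 0) :
    Nat.card {y : SL(2, F) // Sv (up b) y} = 3 * Nat.card F * (Nat.card F - 1) := by
  classical
  have := Fintype.ofFinite F
  rw [Nat.card_congr (Equiv.subtypeEquivRight (sv_up_iff_even h2 hb)), card_bor_or]
  have h := card_cne (F := F) (fun c a => {-a, -a - b * c})
  rw [Nat.card_congr (Equiv.subtypeEquivRight
    (q := fun y => y.1 1 0 ≠ 0 ∧ y.1 1 1 ∈ ({-y.1 0 0, -y.1 0 0 - b * y.1 1 0} : Finset F)) ?_), h]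
  · rw [Finset.sum_congr rfl (g := fun _ => Fintype.card F * 2)]
    · simp [Finset.card_erase_of_mem]
      ring
    · intro c hc
      rw [Finset.sum_congr rfl (g := fun _ => 2)]
      · simp
      · intro a _
        apply Finset.card_pair
        intro h
        exact mul_ne_zero hb (Finset.ne_of_mem_erase hc) (by linear_combination h)
  · intro y
    rw [trace_up_mul, trace_fin_two, Finset.mem_insert, Finset.mem_singleton]
    refine and_congr_right fun _ => or_congr ?_ ?_ <;> constructor <;> intro h <;> linear_combination h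

theorem card_sv_up_three [Finite F] (h3 : (3 : F) = 0) (hsq : ¬ IsSquare (-1 : F)) {b : F} (hb : b ≠ 0) :
    Nat.card {y : SL(2, F) // Sv (up b) y} = Nat.card F * (Nat.card F + 5) := by
  classical
  have := Fintype.ofFinite F
  have h2 : (2 : F) ≠ 0 := fun h => one_ne_zero (α := F) (by linear_combination h3 - h)
  rw [Nat.card_congr (Equiv.subtypeEquivRight (sv_up_iff_three h3 hsq hb)), card_bor_or]
  have h := card_cne (F := F) (fun c a => if c ∈ ({b⁻¹, -b⁻¹} : Finset F) then {-a, 1 - a, -1 - a} else ∅)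
  rw [Nat.card_congr (Equiv.subtypeEquivRight
    (q := fun y => y.1 1 0 ≠ 0 ∧ y.1 1 1 ∈ (if y.1 1 0 ∈ ({b⁻¹, -b⁻¹} : Finset F) then
      {-y.1 0 0, 1 - y.1 0 0, -1 - y.1 0 0} else ∅ : Finset F)) ?_), h]
  · rw [Finset.sum_congr rfl (g := fun c => if c ∈ ({b⁻¹, -b⁻¹} : Finset F) then Fintype.card F * 3 else 0)]
    · rw [Finset.sum_ite_mem, Finset.inter_eq_right.2 (by
        intro c hc
        simp only [Finset.mem_insert, Finset.mem_singleton] at hc
        rcases hc with rfl | rfl <;> simp [hb]), Finset.sum_const, Finset.card_pair (by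
        intro h
        exact mul_ne_zero h2 (inv_ne_zero hb) (by linear_combination h)), Nat.card_eq_fintype_card]
      obtain ⟨k, hk⟩ : ∃ k, Fintype.card F = k + 1 := ⟨Fintype.card F - 1, by
        have := Fintype.card_pos (α := F); omega⟩
      rw [hk, Nat.add_sub_cancel, smul_eq_mul]; ring
    · intro c _
      split_ifs
      · rw [Finset.sum_congr rfl (g := fun _ => 3)]
        · simp
        · intro a _
          refine Finset.card_eq_three.2 ⟨_, _, _, ?_, ?_, ?_, rfl⟩ <;> intro h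
          · exact one_ne_zero (α := F) (by linear_combination -h)
          · exact one_ne_zero (α := F) (by linear_combination h)
          · exact h2 (by linear_combination h)
      · simp
  · intro y
    refine and_congr_right fun _ => ?_
    have e1 : (b * y.1 1 0 = 1 ∨ b * y.1 1 0 = -1) ↔ y.1 1 0 ∈ ({b⁻¹, -b⁻¹} : Finset F) := by
      rw [Finset.mem_insert, Finset.mem_singleton]
      refine or_congr ?_ ?_ <;> constructor <;> intro h
      · exact eq_inv_of_mul_eq_one_right h
      · rw [h, mul_inv_cancel₀ hb]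
      · field_simp; linear_combination h
      · rw [h, mul_neg, mul_inv_cancel₀ hb]
    rw [e1, trace_fin_two]
    split_ifs with hc
    · simp only [hc, true_and, Finset.mem_insert, Finset.mem_singleton]
      refine or_congr ?_ (or_congr ?_ ?_) <;> constructor <;> intro h <;> linear_combination h
    · simp [hc]

theorem card_sv_wt [Finite F] (h3 : (3 : F) = 0) (hsq : ¬ IsSquare (-1 : F)) :
    Nat.card {y : SL(2, F) // Sv wt y} = 2 * (Nat.card F * (Nat.card F + 1)) := by
  classical
  have := Fintype.ofFinite F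
  have h2 : (2 : F) ≠ 0 := fun h => one_ne_zero (α := F) (by linear_combination h3 - h)
  have hnr : ∀ c : F, c ^ 2 - 0 * c + 1 ≠ 0 := fun c h => hsq ⟨c, by linear_combination -h⟩
  have htr : ∀ y : SL(2, F), (wt * y).1.trace = y.1 1 0 - y.1 0 1 := fun y => by
    simp only [SL_coe_mul, trace_fin_two, mul_apply2]; simp; ring
  rw [Nat.card_congr (Equiv.subtypeEquivRight (sv_wt_iff h3 hsq))]
  let S : Finset (F × F) := Finset.univ.filter fun p =>
    p.1 * p.2 = 0 ∨ p.1 ^ 2 + p.2 ^ 2 = 1 ∨ (p.1 ^ 2 = 1 ∧ p.2 ^ 2 = 1)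
  let f : (Σ p : S, {r : F × F // nf 0 1 r.1 r.2 = p.1.1 ^ 2 + p.1.2 ^ 2 - 1}) →
      {y : SL(2, F) // y.1.trace * (wt * y).1.trace = 0 ∨ y.1.trace ^ 2 + (wt * y).1.trace ^ 2 = 1 ∨
      (y.1.trace ^ 2 = 1 ∧ (wt * y).1.trace ^ 2 = 1)} := fun p =>
    ⟨⟨!![-(p.1.1.1 + p.2.1.1), p.1.1.2 - p.2.1.2; -(p.1.1.2 + p.2.1.2), p.2.1.1 - p.1.1.1], by
      have := p.2.2
      unfold nf at this
      rw [det_fin_two_of]; linear_combination -this⟩, by
      have h := (Finset.mem_filter.1 p.1.2).2
      rw [htr, trace_fin_two]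
      simp only [of_apply, cons_val', cons_val_zero, cons_val_one, cons_val_fin_one]
      have e1 : -(p.1.1.1 + p.2.1.1) + (p.2.1.1 - p.1.1.1) = p.1.1.1 := by
        linear_combination -p.1.1.1 * h3
      have e2 : -(p.1.1.2 + p.2.1.2) - (p.1.1.2 - p.2.1.2) = p.1.1.2 := by
        linear_combination -p.1.1.2 * h3
      rwa [e1, e2]⟩
  have hf : Function.Bijective f := by
    constructor
    · rintro ⟨⟨⟨s, u⟩, hp⟩, ⟨v, w⟩, hr⟩ ⟨⟨⟨s', u'⟩, hp'⟩, ⟨v', w'⟩, hr'⟩ h
      have h := SL_coe_congr (congrArg Subtype.val h)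
      obtain ⟨h1, h4, h5, h6⟩ := mat_ext_iff.1 h
      simp only [f, of_apply, cons_val', cons_val_zero, cons_val_one, cons_val_fin_one] at h1 h4 h5 h6
      have e1 : s = s' := by linear_combination h1 + h6 + (s - s') * h3
      have e2 : u = u' := by linear_combination h5 - h4 + (u - u') * h3
      have e3 : v = v' := by linear_combination h6 + e1
      have e4 : w = w' := by linear_combination e2 - h4
      subst e1 e2 e3 e4
      rfl
    · rintro ⟨y, hy⟩
      have hd := SL_det y
      refine ⟨⟨⟨(y.1.trace, (wt * y).1.trace), Finset.mem_filter.2 ⟨Finset.mem_univ _, hy⟩⟩,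
        (y.1 0 0 - y.1 1 1, y.1 0 1 + y.1 1 0), ?_⟩, Subtype.ext (SL_ext ?_)⟩
      · simp only [nf, htr, trace_fin_two y.1]
        linear_combination -4 * hd - h3
      · apply mat_ext <;> simp only [f, of_apply, cons_val', cons_val_zero, cons_val_one, cons_val_fin_one,
          htr, trace_fin_two y.1]
        · linear_combination -y.1 0 0 * h3
        · linear_combination -y.1 0 1 * h3
        · linear_combination -y.1 1 0 * h3
        · linear_combination -y.1 1 1 * h3
  rw [← Nat.card_congr (Equiv.ofBijective f hf), Nat.card_sigma]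
  rw [Finset.sum_coe_sort S (fun p => Nat.card {r : F × F // nf 0 1 r.1 r.2 = p.1 ^ 2 + p.2 ^ 2 - 1})]
  rw [← Finset.sum_filter_add_sum_filter_not S (fun p => p.1 ^ 2 + p.2 ^ 2 = 1)]
  rw [Finset.sum_congr rfl (g := fun _ => 1), Finset.sum_congr rfl (g := fun _ => Nat.card F + 1)
    (s₁ := S.filter fun p => ¬ p.1 ^ 2 + p.2 ^ 2 = 1)]
  · have c1 : (S.filter fun p => p.1 ^ 2 + p.2 ^ 2 = 1).card = Nat.card F + 1 := by
      rw [← card_nf_eq_noRoot hnr one_ne_zero, Nat.card_eq_fintype_card, Fintype.card_subtype]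
      congr 1
      ext p
      simp only [S, nf, Finset.mem_filter, Finset.mem_univ, true_and, zero_mul, add_zero, one_mul]
      tauto
    have c2 : (S.filter fun p => ¬ p.1 ^ 2 + p.2 ^ 2 = 1).card + 1 = 2 * Nat.card F := by
      have hq : ({1, -1} : Finset F).card = 2 :=
        Finset.card_pair fun h => h2 (by linear_combination h)
      have e : (S.filter fun p => ¬ p.1 ^ 2 + p.2 ^ 2 = 1) =
          (({0} : Finset F) ×ˢ ({1, -1} : Finset F)ᶜ ∪ (({0, 1, -1} : Finset F)ᶜ ×ˢ {0})) ∪
            ({1, -1} : Finset F) ×ˢ ({1, -1} : Finset F) := by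
        ext ⟨s, u⟩
        simp only [S, Finset.mem_filter, Finset.mem_univ, true_and, Finset.mem_union, Finset.mem_product,
          Finset.mem_singleton, Finset.mem_compl, Finset.mem_insert, ← sq_eq_one_iff,
          mul_eq_zero]
        constructor
        · rintro ⟨(h | h) | h | h, h'⟩
          · subst h; left; left; simpa using h'
          · subst h
            by_cases hs : s = 0
            · left; left; simp [hs]
            · left; right; simpa [hs] using h'
          · exact absurd h h'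
          · exact Or.inr h
        · rintro ((⟨h, h'⟩ | ⟨h, h'⟩) | h)
          · subst h; simpa using h'
          · subst h'; simpa using (not_or.1 h).2
          · refine ⟨Or.inr (Or.inr h), fun h' => ?_⟩
            rw [h.1, h.2] at h'
            exact one_ne_zero (α := F) (by linear_combination h')
      have hq3 : ({0, 1, -1} : Finset F).card = 3 := by
        rw [Finset.card_insert_of_notMem (by simp), hq]
      have h3le : 3 ≤ Fintype.card F := hq3 ▸ Finset.card_le_univ _
      rw [e, Finset.card_union_of_disjoint, Finset.card_union_of_disjoint]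
      · simp only [Finset.card_product, Finset.card_compl, hq, hq3, Finset.card_singleton,
          Nat.card_eq_fintype_card]
        omega
      · rw [Finset.disjoint_left]
        rintro ⟨s, u⟩ h h'
        simp only [Finset.mem_product, Finset.mem_singleton, Finset.mem_compl, Finset.mem_insert] at h h'
        tauto
      · rw [Finset.disjoint_left]
        rintro ⟨s, u⟩ h h'
        simp only [Finset.mem_union, Finset.mem_product, Finset.mem_singleton, Finset.mem_compl,
          Finset.mem_insert] at h h'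
        tauto
    simp only [Finset.sum_const, smul_eq_mul, mul_one, c1]
    nlinarith
  · intro p hp
    exact card_nf_eq_noRoot hnr (sub_ne_zero.2 (Finset.mem_filter.1 hp).2)
  · intro p hp
    rw [(Finset.mem_filter.1 hp).2, sub_self, Nat.card_eq_one_iff_exists]
    refine ⟨⟨(0, 0), by simp [nf]⟩, ?_⟩
    rintro ⟨⟨v, w⟩, h⟩
    have := (nf_eq_zero_iff hnr v w).1 h
    exact Subtype.ext (Prod.ext this.1 this.2)

end Cfsg.Agent.SL2
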